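import Groth.Agent.Fano.K188.OnHyp
import Groth.Agent.Fano.K745.ConDef

/-!
# Maps given by sections factor through a hypersurface iff its form vanishes at the sections

* `exists_lift_iff_van`: node M1 of `K745.PlanC`;
* `van_msec_iff`: the form `G` vanishes at `msec f x φ` iff `subF G φ` vanishes at `x`;
* `isHomogeneous_subF`;
* `exists_lift_iff_dvd`: node M2 of `K745.PlanC` (node K4b as a hypothesis).
-/

set_option autoImplicit false

universe u

open CategoryTheory CategoryTheory.Limits AlgebraicGeometry TopologicalSpace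

namespace K423.ConE

open K390.PnSec Groth.Agent.Fdesc.LocGen Groth.Agent.Dix.ProjProper
open Groth.Agent.Ega2.H295.PnUniq Groth.Agent.Ega2.H295.PnCoord
open Groth.Agent.Lefpen.H711.PencilMap
open K188.LineDef K188.MapP1 K188.HypFac K188.OnHypL K745.ConDef LefPen

variable {k : Type u} [Field k] {n d : ℕ}

theorem eval₂_map_kmap {T Y : Scheme.{u}} (f : Y ⟶ T) (q : T ⟶ Spec (CommRingCat.of k))
    (r : Y ⟶ Spec (CommRingCat.of k)) (hr : r = f ≫ q) (V : Y.Opens) (a : Fin (n + 1) → Γ(Y, V))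
    (G : MvPolynomial (Fin (n + 1)) k) :
    MvPolynomial.eval₂ (ρV f V) a (G.map (kmap q)) = MvPolynomial.eval₂ (cst r V) a G := by
  rw [MvPolynomial.eval₂_map, cst_eq q f r hr]
  rfl

/-- Node M1: a morphism to projective space given by sections `s` factors through `V_+(G)` iff `G` vanishes at `s`. -/
theorem exists_lift_iff_van {T Y : Scheme.{u}} (f : Y ⟶ T) (q : T ⟶ Spec (CommRingCat.of k))
    (r : Y ⟶ CohB1.ProjSpace n k) (hr : r ≫ CohB1.ProjSpace.toSpec n k = f ≫ q) {L : Y.Modules}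
    (s : Fin (n + 1) → Γ(L, ⊤)) (h : GivenBy r L s) (G : LefPen.Form n k d) :
    (∃ m : Y ⟶ (LefPen.hypIdeal G).subscheme, m ≫ (LefPen.hypIdeal G).subschemeι = r) ↔
      Van f s (G.1.map (kmap q)) := by
  let W : Fin (n + 1) → Y.Opens := fun a => r ⁻¹ᵁ chart n k a
  have he : ∀ a, IsGen (res L (le_top : W a ≤ ⊤) (s a)) := fun a => isGen_res_sec h a le_rfl
  choose y hy using fun (a b : Fin (n + 1)) => (he a).exists_eq (res L (le_top : W a ≤ ⊤) (s b))
  constructor
  · intro hm V e a hge ha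
    have h1 := (exists_lift_iff_eval₂ h G (fun o : Option (Fin (n + 1)) => o.elim V W)
      (fun x => by
        obtain ⟨i, hi⟩ := exists_mem r x
        exact ⟨some i, hi⟩)
      (fun o => Option.rec (motive := fun o => Γ(L, (o.elim V W : Y.Opens))) e
        (fun a => res L (le_top : W a ≤ ⊤) (s a)) o)
      (fun o => by cases o with
        | none => exact hge
        | some i => exact he i)
      (fun o => Option.rec (motive := fun o => Fin (n + 1) → Γ(Y, (o.elim V W : Y.Opens))) a y o)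
      (fun o b => by cases o with
        | none => exact ha b
        | some i => exact hy i b)).1 hm none
    rw [eval₂_map_kmap f q _ hr]
    exact h1
  · intro hv
    refine (exists_lift_iff_eval₂ h G W (fun x => ?_) _ he y hy).2 fun a => ?_
    · exact exists_mem r x
    · rw [← eval₂_map_kmap f q _ hr]
      exact hv _ _ _ (he a) (hy a)

section Sub

variable {A B C : Type u} [CommRing A] [CommRing B] [CommRing C]

theorem eval₂_lin3 (ψ : A →+* C) (a : Fin 3 → C) (v : Fin 3 → A) :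
    MvPolynomial.eval₂ ψ a (lin3 v) = ∑ i, ψ (v i) * a i := by
  have h1 : (MvPolynomial.eval₂Hom ψ a) (lin3 v) = ∑ i, ψ (v i) * a i := by
    simp [lin3]
  exact h1

theorem eval₂_subF (ρ : B →+* A) (ψ : A →+* C) (a : Fin 3 → C) (G : MvPolynomial (Fin (n + 1)) B)
    (φ : Fin (n + 1) → Fin 3 → A) :
    MvPolynomial.eval₂ ψ a (subF ρ G φ) =
      MvPolynomial.eval₂ (ψ.comp ρ) (fun l => ∑ i, ψ (φ l i) * a i) G := by
  have h1 : (MvPolynomial.eval₂Hom ψ a) (subF ρ G φ) =
      MvPolynomial.eval₂ ((MvPolynomial.eval₂Hom ψ a).comp (MvPolynomial.C.comp ρ))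
        ((MvPolynomial.eval₂Hom ψ a) ∘ fun l => lin3 (φ l)) G := MvPolynomial.eval₂_comp_left _ _ _ _
  refine Eq.trans h1 ?_
  congr 1
  · ext a
    simp
  · funext l
    exact eval₂_lin3 ψ a (φ l)

theorem isHomogeneous_lin3 (v : Fin 3 → A) : (lin3 v).IsHomogeneous 1 := by
  refine MvPolynomial.IsHomogeneous.sum _ _ _ fun i _ => ?_
  simpa using (MvPolynomial.isHomogeneous_C (Fin 3) (v i)).mul (MvPolynomial.isHomogeneous_X A i)

theorem isHomogeneous_subF (ρ : B →+* A) {G : MvPolynomial (Fin (n + 1)) B} (hG : G.IsHomogeneous d)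
    (φ : Fin (n + 1) → Fin 3 → A) : (subF ρ G φ).IsHomogeneous d := by
  have h1 := hG.eval₂ (MvPolynomial.C.comp ρ) (fun l => lin3 (φ l))
    (fun r => MvPolynomial.isHomogeneous_C _ _) (n := 1) (fun a => isHomogeneous_lin3 (φ a))
  rwa [one_mul] at h1

end Sub

/-- A form vanishes at the sections `msec f x φ` iff the form composed with `φ` vanishes at the sections `x`. -/
theorem van_msec_iff {T C : Scheme.{u}} (ρ : k →+* Γ(T, ⊤)) (f : C ⟶ T) {L : C.Modules} (x : Fin 3 → Γ(L, ⊤))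
    (φ : Fin (n + 1) → Fin 3 → Γ(T, ⊤)) (G : MvPolynomial (Fin (n + 1)) k) :
    Van f (msec f x φ) (G.map ρ) ↔ Van f x (subF ρ G φ) := by
  have h0 : ∀ (V : C.Opens) (e : Γ(L, V)) (a : Fin 3 → Γ(C, V)), (∀ i, res L le_top (x i) = a i • e) →
      ∀ l, res L le_top (msec f x φ l) = (∑ i, ρV f V (φ l i) * a i) • e := by
    intro V e a ha l
    rw [msec, map_sum, Finset.sum_smul]
    refine Finset.sum_congr rfl fun i _ => ?_
    rw [res_smul, ha i, mul_smul]
    rfl
  have h1 : ∀ (V : C.Opens) (a : Fin 3 → Γ(C, V)), MvPolynomial.eval₂ (ρV f V) a (subF ρ G φ) =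
      MvPolynomial.eval₂ (ρV f V) (fun l => ∑ i, ρV f V (φ l i) * a i) (G.map ρ) := by
    intro V a
    rw [eval₂_subF, MvPolynomial.eval₂_map]
  constructor
  · intro hv V e a he ha
    rw [h1]
    exact hv V e _ he (h0 V e a ha)
  · intro hv V e b he hb
    choose a ha using fun i => he.exists_eq (res L (le_top : V ≤ ⊤) (x i))
    have h2 : b = fun l => ∑ i, ρV f V (φ l i) * a i := by
      funext l
      refine he.ext ?_
      rw [← hb l, h0 V e a ha l]
    rw [h2, ← h1]
    exact hv V e a he ha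

/-- Node M2: for maps from conics (node K4b is the hypothesis `hK`). -/
theorem exists_lift_iff_dvd {T C : Scheme.{u}} (q : T ⟶ Spec (CommRingCat.of k)) {c : Fin 5 → Γ(T, ⊤)}
    {f : C ⟶ T} {L : C.Modules} {x : Fin 3 → Γ(L, ⊤)} (_h : IsCon c f L x)
    (hK : ∀ (F : MvPolynomial (Fin 3) Γ(T, ⊤)), F.IsHomogeneous d → (Van f x F ↔ qf c ∣ F))
    (φ : Fin (n + 1) → Fin 3 → Γ(T, ⊤)) (μ : C ⟶ CohB1.ProjSpace n k)
    (hμ : μ ≫ CohB1.ProjSpace.toSpec n k = f ≫ q) (hs : GivenBy μ L (msec f x φ)) (G : LefPen.Form n k d) :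
    (∃ m : C ⟶ (LefPen.hypIdeal G).subscheme, m ≫ (LefPen.hypIdeal G).subschemeι = μ) ↔
      qf c ∣ subF (kmap q) G.1 φ := by
  rw [exists_lift_iff_van f q μ hμ _ hs G, van_msec_iff, hK _ (isHomogeneous_subF _
    ((MvPolynomial.mem_homogeneousSubmodule _ _).1 G.2) φ)]

end K423.ConE
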