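import Groth.Agent.Fano.K314.HonHR
import Groth.Agent.FlatA.DimFin
import Mathlib.RingTheory.TensorProduct.MvPolynomial

/-!
# The dimension of the ring of maps over `R` (nodes HD2, HD3 of `K239.PlanHon`)

* `ringKrullDim_tensor_le`: `dim (R ⊗ A) ≤ dim R + dim A` for a noetherian `k`-algebra `R` and a `k`-algebra `A` of finite type;
* `ringKrullDim_HR_le`: `dim HR G d e R ≤ dim R + dim HR G d e k`;
* `ringKrullDim_QR_le`: `dim QR k r ≤ r`.
-/

set_option autoImplicit false

universe u

namespace K423.HonDim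

open K239.HonDef
open scoped TensorProduct

section Tensor

variable (k R A : Type u) [Field k] [CommRing R] [CommRing A] [Algebra k R] [Algebra k A]

theorem isIntegral_map {P : Type u} [CommRing P] [Algebra k P] (g : P →ₐ[k] A) (hg : g.toRingHom.IsIntegral) :
    (Algebra.TensorProduct.map (AlgHom.id k R) g : R ⊗[k] P →ₐ[k] R ⊗[k] A).toRingHom.IsIntegral := by
  set f := (Algebra.TensorProduct.map (AlgHom.id k R) g : R ⊗[k] P →ₐ[k] R ⊗[k] A) with hf
  intro x
  induction x with
  | zero => exact f.toRingHom.isIntegralElem_zero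
  | add x y hx hy => exact RingHom.IsIntegralElem.add _ hx hy
  | tmul r a =>
    have h1 : r ⊗ₜ[k] a = (r ⊗ₜ[k] (1 : A)) * ((1 : R) ⊗ₜ[k] a) := by
      rw [Algebra.TensorProduct.tmul_mul_tmul, one_mul, mul_one]
    rw [h1]
    refine RingHom.IsIntegralElem.mul _ ?_ ?_
    · have h2 : r ⊗ₜ[k] (1 : A) = f.toRingHom (r ⊗ₜ[k] (1 : P)) := by
        change _ = f (r ⊗ₜ[k] (1 : P))
        rw [hf, Algebra.TensorProduct.map_tmul, map_one]
        rfl
      rw [h2]
      exact f.toRingHom.isIntegralElem_map
    · obtain ⟨p, hp, h0⟩ := hg a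
      refine ⟨p.map (Algebra.TensorProduct.includeRight : P →ₐ[k] R ⊗[k] P).toRingHom, hp.map _, ?_⟩
      rw [Polynomial.eval₂_map]
      have h3 : f.toRingHom.comp (Algebra.TensorProduct.includeRight : P →ₐ[k] R ⊗[k] P).toRingHom =
          (Algebra.TensorProduct.includeRight : A →ₐ[k] R ⊗[k] A).toRingHom.comp g.toRingHom := by
        ext y
        change f ((1 : R) ⊗ₜ[k] y) = (1 : R) ⊗ₜ[k] g y
        rw [hf, Algebra.TensorProduct.map_tmul, map_one]
      rw [h3]
      have h4 := Polynomial.hom_eval₂ p g.toRingHom (Algebra.TensorProduct.includeRight : A →ₐ[k] R ⊗[k] A).toRingHom a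
      rw [h0, map_zero] at h4
      exact h4.symm

/-- The dimension of the tensor product with an algebra of finite type. -/
theorem ringKrullDim_tensor_le [IsNoetherianRing R] [Algebra.FiniteType k A] :
    ringKrullDim (R ⊗[k] A) ≤ ringKrullDim R + ringKrullDim A := by
  rcases subsingleton_or_nontrivial A with hA | hA
  · have : Subsingleton (R ⊗[k] A) := by
      refine ⟨fun x y => ?_⟩
      have h0 : ∀ z : R ⊗[k] A, z = 0 := fun z => by
        have h1 : (1 : R ⊗[k] A) = 0 := by
          rw [Algebra.TensorProduct.one_def, Subsingleton.elim (1 : A) 0, TensorProduct.tmul_zero]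
        rw [← mul_one z, h1, mul_zero]
      rw [h0 x, h0 y]
    rw [ringKrullDim_eq_bot_of_subsingleton]
    exact bot_le
  · obtain ⟨s, g, hg, hfin, hs⟩ := Groth.Agent.FlatA.DimFin.exists_noether k A
    rw [hs, ← Nat.card_fin s, ← MvPolynomial.ringKrullDim_of_isNoetherianRing]
    have h1 := isIntegral_map k R A g hfin.to_isIntegral
    set f := (Algebra.TensorProduct.map (AlgHom.id k R) g : R ⊗[k] MvPolynomial (Fin s) k →ₐ[k] R ⊗[k] A)
    have h2 : ringKrullDim (R ⊗[k] A) ≤ ringKrullDim (R ⊗[k] MvPolynomial (Fin s) k) := by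
      let _ := f.toRingHom.toAlgebra
      have : Algebra.IsIntegral (R ⊗[k] MvPolynomial (Fin s) k) (R ⊗[k] A) := ⟨h1⟩
      exact Groth.Agent.FlatA.DimFin.ringKrullDim_le_of_isIntegral _ _
    refine h2.trans (le_of_eq ?_)
    exact ringKrullDim_eq_of_ringEquiv (MvPolynomial.algebraTensorAlgEquiv (σ := Fin s) k R).toRingEquiv

end Tensor

section QR

/-- Node HD3: the dimension of `QR k r`. -/
theorem ringKrullDim_QR_le (k : Type u) [Field k] (r : ℕ) : ringKrullDim (QR k r) ≤ (r : WithBot ℕ∞) := by
  have h1 : ringKrullDim (QR k r) ≤ ringKrullDim (MvPolynomial (Fin r) k) := by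
    refine Order.krullDim_le_of_strictMono (PrimeSpectrum.comap (algebraMap (MvPolynomial (Fin r) k) (QR k r))) ?_
    refine Monotone.strictMono_of_injective ?_ (PrimeSpectrum.localization_comap_injective (QR k r) (Submonoid.powers (disc k r)))
    intro p q hpq
    exact Ideal.comap_mono hpq
  exact h1.trans (Groth.Agent.FlatA.DimFin.ringKrullDim_mvPolynomial_fin k r).le

end QR

section HR

open K314.HonHR

variable {k : Type u} [Field k] {n : ℕ} (G : MvPolynomial (Fin (n + 1)) k) (d e : ℕ)

/-- Node HD2, for a noetherian ring `R`. -/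
theorem ringKrullDim_HR_le' (R : Type u) [CommRing R] [Algebra k R] [IsNoetherianRing R] :
    ringKrullDim (HR G d e R) ≤ ringKrullDim R + ringKrullDim (HR G d e k) := by
  obtain ⟨ε⟩ := nonempty_algEquiv G d e R
  have h1 : ringKrullDim (R ⊗[k] HR G d e k) = ringKrullDim (HR G d e R) := ringKrullDim_eq_of_ringEquiv ε.toRingEquiv
  rw [← h1]
  exact ringKrullDim_tensor_le k R (HR G d e k)

/-- Node HD2. -/
theorem ringKrullDim_HR_le (R : Type u) [CommRing R] [IsDomain R] [Algebra k R] [Algebra.FiniteType k R] :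
    ringKrullDim (HR G d e R) ≤ ringKrullDim R + ringKrullDim (HR G d e k) := by
  have : IsNoetherianRing R := Algebra.FiniteType.isNoetherianRing k R
  exact ringKrullDim_HR_le' G d e R

end HR

end K423.HonDim
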