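import Groth.Agent.Fano.K239.HonDef2
import Groth.Agent.Fano.K655.StdStable
import Groth.Agent.Ribbon.K932.RibPic
import Groth.Agent.Curves.K329.Deg
import Groth.Agent.CurvSt.K896.TailBridge
import Groth.Agent.PicF.K247.SmoothGI
import Groth.Agent.CurvesC.DegIso
import Groth.Agent.Fano.K188.LinP1

/-!
# A stable map from a smooth rational curve has a datum for the honest chart (node HS of `K239.PlanHon2`)
-/

set_option autoImplicit false

universe u

open CategoryTheory CategoryTheory.Limits AlgebraicGeometry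

namespace K423.HonS

open K390.PnSec Groth.Agent.Fdesc.LocGen Groth.Agent.Dix.ProjProper
open Groth.Agent.Ega2.H295.PnUniq Groth.Agent.Ega2.H295.PnCoord
open K188.LineDef K188.LinFun K745.ConDef K505.KonDef K239.HonDef W4swstmapratcurves
open Groth.Agent Groth.Agent.CurvesC

section Deg

/-- Invertible modules on a curve isomorphic to the projective line over a field are classified by the degree. -/
theorem nonempty_iso_of_deg {Ω : Type u} [Field Ω] {C : Scheme.{u}} {q : C ⟶ Spec (CommRingCat.of Ω)}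
    (e : C ≅ CohB1.ProjSpace 1 Ω) (he : e.hom ≫ CohB1.ProjSpace.toSpec 1 Ω = q) {L M : C.Modules}
    (hL : PicF.IsInvertible L) (hM : PicF.IsInvertible M)
    (h : letI : C.Over (Spec (CommRingCat.of Ω)) := ⟨q⟩; Curv2.deg Ω C L 1 = Curv2.deg Ω C M 1) :
    Nonempty (L ≅ M) := by
  let _ : C.Over (Spec (CommRingCat.of Ω)) := ⟨q⟩
  obtain ⟨a, ⟨i⟩⟩ := K932.RibPic.exists_iso Ω e L hL
  obtain ⟨b, ⟨j⟩⟩ := K932.RibPic.exists_iso Ω e M hM
  have key : ∀ (m : ℤ) (K : C.Modules),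
      (K ≅ (Scheme.Modules.pullback e.hom).obj (Twist.twistProjSpace 1 Ω m)) → Curv2.deg Ω C K 1 = m := by
    intro m K i
    have h1 := DegIso.deg_congr Ω i 1
    have h2 := DegIso.deg_pullback_iso Ω e he (Twist.twistProjSpace 1 Ω m) 1
    rw [K329.Deg.deg_twist] at h2
    exact h1.trans h2
  have hab : a = b := by rw [← key a L i, ← key b M j]; exact h
  subst hab
  exact ⟨i ≪≫ j.symm⟩

end Deg

section Marks

variable {Ω : Type u} [Field Ω]

theorem isClosed_of_section {C : Scheme.{u}} {q : C ⟶ Spec (CommRingCat.of Ω)} [IsSeparated q]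
    (s : Spec (CommRingCat.of Ω) ⟶ C) (hs : s ≫ q = 𝟙 _) (t : Spec (CommRingCat.of Ω)) :
    IsClosed ({s t} : Set C) := by
  have h1 : IsClosedImmersion (s ≫ q) := by rw [hs]; infer_instance
  have h2 : IsClosedImmersion s := IsClosedImmersion.of_comp s q
  have h3 : Set.range s = {s t} := by
    have : Subsingleton (Spec (CommRingCat.of Ω)) := inferInstanceAs (Subsingleton (PrimeSpectrum Ω))
    ext z
    constructor
    · rintro ⟨w, rfl⟩
      rw [Subsingleton.elim w t]; rfl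
    · rintro rfl
      exact ⟨t, rfl⟩
  rw [← h3]
  exact s.isClosedEmbedding.isClosed_range

theorem map_markedPt {C T : Scheme.{u}} {f : C ⟶ T} {N : ℕ} (σ : Fin N → (T ⟶ C)) (hσ : ∀ i, σ i ≫ f = 𝟙 T)
    {t : Spec (CommRingCat.of Ω) ⟶ T} {X : Scheme.{u}} {i : X ⟶ C} {q : X ⟶ Spec (CommRingCat.of Ω)}
    (hP : IsPullback i q f t) (j : Fin N) :
    i (CurvSt.markedPt σ hσ hP j) = σ j (t (IsLocalRing.closedPoint Ω)) := by
  have h1 := hP.lift_fst (t ≫ σ j) (𝟙 _) (by rw [Category.assoc, hσ, Category.comp_id, Category.id_comp])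
  exact congrArg (fun g : Spec (CommRingCat.of Ω) ⟶ C => g (IsLocalRing.closedPoint Ω)) h1

theorem isClosed_markedPt {C T : Scheme.{u}} {f : C ⟶ T} {N : ℕ} (σ : Fin N → (T ⟶ C)) (hσ : ∀ i, σ i ≫ f = 𝟙 T)
    {t : Spec (CommRingCat.of Ω) ⟶ T} {X : Scheme.{u}} {i : X ⟶ C} {q : X ⟶ Spec (CommRingCat.of Ω)} [IsSeparated q]
    (hP : IsPullback i q f t) (j : Fin N) :
    IsClosed ({CurvSt.markedPt σ hσ hP j} : Set X) :=
  isClosed_of_section (q := q) (hP.lift (t ≫ σ j) (𝟙 _) (by rw [Category.assoc, hσ, Category.comp_id, Category.id_comp]))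
    (hP.lift_snd _ _ _) _

variable [IsAlgClosed Ω]

/-- Changing the marked points of a smooth curve. -/
theorem isPrestablePtd_of_smooth {C : Scheme.{u}} {q : C ⟶ Spec (CommRingCat.of Ω)} {N N' : ℕ} {x : Fin N → C} {g : ℕ}
    (h : StMap.IsPrestablePtd Ω C q g x) (hsm : Smooth q) {x' : Fin N' → C} (hinj : Function.Injective x')
    (hcl : ∀ i, IsClosed ({x' i} : Set C)) : StMap.IsPrestablePtd Ω C q g x' :=
  ⟨h.1, h.2.1, h.2.2.1, h.2.2.2.1, hinj, fun i => ⟨hcl i, ⊤, trivial, inferInstance⟩⟩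

end Marks

/-! ## Inputs: nodes HA1 and HB3 of `K239.PlanHon` -/

section Inputs

/-- `K239.PlanHon.aff_pmap` -/
def AffPmap : Prop := ∀ {T T' : Scheme.{u}} (g : T' ⟶ T) (b : Γ(T, ⊤)), aff (g.appTop b) ≫ pmap g = g ≫ aff b

/-- `K239.PlanHon.inf_pmap` -/
def InfPmap : Prop := ∀ {T T' : Scheme.{u}} (g : T' ⟶ T), inf T' ≫ pmap g = g ≫ inf T

/-- `K239.PlanHon.exists_eq_aff` -/
def EqAff : Prop := ∀ {T : Scheme.{u}} (s : T ⟶ P1 T), s ≫ pr T = 𝟙 T → (∀ t, s t ≠ inf T t) → ∃ b : Γ(T, ⊤), s = aff b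

/-- `K239.PlanHon.aff_ne_iff` -/
def AffNe : Prop := ∀ {T : Scheme.{u}} (b b' : Γ(T, ⊤)), (∀ t, aff b t ≠ aff b' t) ↔ IsUnit (b - b')

/-- `K239.PlanHon.existsUnique_toQO` -/
def ToQO (k : Type u) [Field k] (r : ℕ) : Prop := ∀ (T : Over (Spec (CommRingCat.of k))) (b : Fin r → Γ(T.left, ⊤)),
  (∀ i, IsUnit (b i)) → (∀ i, IsUnit (b i - 1)) → (∀ i j, i ≠ j → IsUnit (b i - b j)) →
    ∃! g : T ⟶ QO k r, ∀ i, g.left.appTop (xF k r i) = b i

end Inputs

section Points

variable {Ω : Type u} [Field Ω]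

theorem std3_pmap (h1 : AffPmap.{u}) (h2 : InfPmap.{u}) {T T' : Scheme.{u}} (g : T' ⟶ T) (i : Fin 3) :
    std3 T' i ≫ pmap g = g ≫ std3 T i := by
  fin_cases i
  · have := h1 g 0
    rw [map_zero] at this
    exact this
  · have := h1 g 1
    rw [map_one] at this
    exact this
  · exact h2 g

/-- Three sections of a curve isomorphic to the projective line avoiding finitely many points. -/
theorem exists_three [IsAlgClosed Ω] (h4 : AffNe.{u}) {C : Scheme.{u}} {q : C ⟶ Spec (CommRingCat.of Ω)}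
    (e : C ≅ P1 (Spec (CommRingCat.of Ω))) (he : e.hom ≫ pr _ = q) (S : Set C) (hS : S.Finite) :
    ∃ y : Fin 3 → (Spec (CommRingCat.of Ω) ⟶ C), (∀ i, y i ≫ q = 𝟙 _) ∧ (∀ i t, y i t ∉ S) ∧
      ∀ i j, i ≠ j → ∀ t, y i t ≠ y j t := by
  let z : Spec (CommRingCat.of Ω) := IsLocalRing.closedPoint Ω
  have hz : ∀ t : Spec (CommRingCat.of Ω), t = z := fun t =>
    Subsingleton.elim (α := PrimeSpectrum Ω) t z
  let c : Ω → Γ(Spec (CommRingCat.of Ω), ⊤) := fun a => (Scheme.ΓSpecIso (CommRingCat.of Ω)).inv a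
  let σ : Ω → (Spec (CommRingCat.of Ω) ⟶ C) := fun a => aff (c a) ≫ e.inv
  have hσ : ∀ a, σ a ≫ q = 𝟙 _ := fun a => by
    rw [← he, Category.assoc, Iso.inv_hom_id_assoc, aff_pr]
  have hne : ∀ a a', a ≠ a' → σ a z ≠ σ a' z := by
    intro a a' ha h
    have hu : IsUnit (c a - c a') := by
      rw [show c a - c a' = (Scheme.ΓSpecIso (CommRingCat.of Ω)).inv.hom (a - a') from (map_sub _ _ _).symm]
      exact (isUnit_iff_ne_zero.2 (sub_ne_zero.2 ha)).map _
    have h1 := (h4 (c a) (c a')).2 hu z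
    apply h1
    have h2 := congrArg (fun w : C => e.hom w) h
    have h3 : ∀ b : Ω, e.hom (σ b z) = aff (c b) z := by
      intro b
      change (σ b ≫ e.hom) z = aff (c b) z
      rw [Category.assoc, Iso.inv_hom_id, Category.comp_id]
    simpa only [h3] using h2
  have hinj : Function.Injective (fun a : Ω => σ a z) := fun a a' h => by
    by_contra hc
    exact hne a a' hc h
  have hfin : ((fun a : Ω => σ a z) ⁻¹' S).Finite := hS.preimage hinj.injOn
  have hinf : Set.Infinite ((fun a : Ω => σ a z) ⁻¹' S)ᶜ := hfin.infinite_compl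
  let ν := hinf.natEmbedding
  refine ⟨fun i => σ (ν i), fun i => hσ _, fun i t => ?_, fun i j hij t => ?_⟩
  · rw [hz t]; exact (ν i).2
  · rw [hz t]
    refine hne _ _ fun h => hij ?_
    exact Fin.ext (ν.injective (Subtype.ext h))

end Points

section Core

variable {Ω : Type u} [Field Ω] [IsAlgClosed Ω] {C : Scheme.{u}} (f : C ⟶ Spec (CommRingCat.of Ω)) {r : ℕ}
  (sect : Fin r → (Spec (CommRingCat.of Ω) ⟶ C)) (sect_f : ∀ i, sect i ≫ f = 𝟙 _)

omit [IsAlgClosed Ω] in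
theorem isPullback_id : IsPullback (𝟙 C) f f (𝟙 _) := IsPullback.of_horiz_isIso ⟨by simp⟩

include sect_f in
/-- A smooth prestable pointed curve of genus `0` over an algebraically closed field is the projective line, and the marked points are
finite, different from `0` and `1`. -/
theorem core (h4 : AffNe.{u}) (h3 : EqAff.{u}) (hrec : Rec.{u}) [Flat f] [IsProper f] [LocallyOfFinitePresentation f]
    [hsm : Smooth f]
    (hst : ∀ (Ω' : Type u) [Field Ω'] [IsAlgClosed Ω'] (t : Spec (CommRingCat.of Ω') ⟶ Spec (CommRingCat.of Ω)) (Xt : Scheme.{u})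
      (i : Xt ⟶ C) (q : Xt ⟶ Spec (CommRingCat.of Ω')) (hP : IsPullback i q f t),
      StMap.IsPrestablePtd Ω' Xt q 0 (CurvSt.markedPt sect sect_f hP)) :
    ∃ (y : Fin 3 → (Spec (CommRingCat.of Ω) ⟶ C)) (φ : C ≅ P1 (Spec (CommRingCat.of Ω)))
      (b : Fin r → Γ(Spec (CommRingCat.of Ω), ⊤)), (∀ i, y i ≫ f = 𝟙 _) ∧ φ.hom ≫ pr _ = f ∧
      (∀ i, y i ≫ φ.hom = std3 _ i) ∧ (∀ j, sect j ≫ φ.hom = aff (b j)) ∧
      (∀ i, IsUnit (b i)) ∧ (∀ i, IsUnit (b i - 1)) ∧ (∀ i j, i ≠ j → IsUnit (b i - b j)) := by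
  let z : Spec (CommRingCat.of Ω) := IsLocalRing.closedPoint Ω
  have hz : ∀ t : Spec (CommRingCat.of Ω), t = z := fun t =>
    Subsingleton.elim (α := PrimeSpectrum Ω) t z
  have h0 := hst Ω (𝟙 _) C (𝟙 C) f (isPullback_id f)
  obtain ⟨e', he'⟩ : ∃ e : C ≅ CohB1.ProjSpace 1 Ω, e.hom ≫ CohB1.ProjSpace.toSpec 1 Ω = f := by
    have hc : ConnectedSpace C := h0.2.1
    have hint : IsIntegral C := K247.SmoothGI.isIntegral_of_smooth f
    let _ : C.Over (Spec (CommRingCat.of Ω)) := ⟨f⟩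
    have hP' : IsProper (C ↘ Spec (CommRingCat.of Ω)) := inferInstanceAs (IsProper f)
    have hg' : Curv2.genus Ω C = 0 := h0.2.2.2.1.2
    have hfin := Groth.Agent.S0002.result Ω C (Coh.structureModule C)
      (Groth.Agent.CurvesB.UnitCoh.isCoh_structureModule C) 1
    exact K896.TailBridge.exists_iso_P1 Ω C h0.2.2.1 (Module.finrank_zero_iff.mp hg')
  obtain ⟨ε, hε, -, -⟩ := K188.LinP1.exists_iso_P1 Ω
  obtain ⟨y, hy, hyS, hyy⟩ := exists_three h4 (q := f) (e' ≪≫ ε)
    (by rw [Iso.trans_hom, Category.assoc, hε, he']) (Set.range fun j => sect j z) (Set.finite_range _)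
  obtain ⟨φ, hφ, hφy⟩ := hrec f y hy inferInstance inferInstance inferInstance (by
    intro Ω' _ _ t Xt i q hP
    have hq : Smooth q := MorphismProperty.of_isPullback hP hsm
    have hqp : IsProper q := MorphismProperty.of_isPullback hP inferInstance
    refine ⟨isPrestablePtd_of_smooth (hst Ω' t Xt i q hP) hq ?_ fun j => isClosed_markedPt y hy hP j, hq⟩
    intro a b hab
    by_contra hne
    refine hyy a b hne (t (IsLocalRing.closedPoint Ω')) ?_
    rw [← map_markedPt y hy hP a, ← map_markedPt y hy hP b, hab])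
  have hφinj : Function.Injective φ.hom := (Scheme.homeoOfIso φ).injective
  have hsne : ∀ j i t, (sect j ≫ φ.hom) t ≠ std3 _ i t := by
    intro j i t h
    rw [← hφy i] at h
    have h' : sect j t = y i t := hφinj h
    refine hyS i t ?_
    rw [← h', hz t]
    exact ⟨j, rfl⟩
  have hb : ∀ j, ∃ b : Γ(Spec (CommRingCat.of Ω), ⊤), sect j ≫ φ.hom = aff b := fun j =>
    h3 _ (by rw [Category.assoc, hφ, sect_f]) (hsne j 2)
  choose b hb using hb
  refine ⟨y, φ, b, hy, hφ, hφy, hb, fun i => ?_, fun i => ?_, fun i j hij => ?_⟩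
  · have := (h4 (b i) 0).1 (fun t => by rw [← hb i]; exact hsne i 0 t)
    rwa [sub_zero] at this
  · exact (h4 (b i) 1).1 (fun t => by rw [← hb i]; exact hsne i 1 t)
  · refine (h4 (b i) (b j)).1 (fun t => ?_)
    rw [← hb i, ← hb j]
    intro h
    have h' : sect i t = sect j t := hφinj h
    apply hij
    have hinj := h0.2.2.2.2.1
    apply hinj
    have e1 := map_markedPt sect sect_f (isPullback_id f) i
    have e2 := map_markedPt sect sect_f (isPullback_id f) j
    have e3 : ∀ w : C, (𝟙 C : C ⟶ C) w = w := fun w => rfl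
    rw [e3] at e1 e2
    rw [e1, e2]
    rw [hz t] at h'
    have e4 : (𝟙 (Spec (CommRingCat.of Ω)) : _ ⟶ _) (IsLocalRing.closedPoint Ω) = z := rfl
    rw [e4]
    exact h'

end Core

section Main

variable {k : Type u} [Field k] {n d r e : ℕ} {G : LefPen.Form n k d}
  {hi : IsPre (B0 k r)} {hp : ProdB0 k r} (o : Oe G (QO k r).hom e) (ho : OeStab o)

theorem exists_datum (h1 : AffPmap.{u}) (h2 : InfPmap.{u}) (h3 : EqAff.{u}) (h4 : AffNe.{u}) (h5 : ToQO k r)
    (hrec : Rec.{u}) {Ω : Type u} [Field Ω] [IsAlgClosed Ω] (q : Spec (CommRingCat.of Ω) ⟶ Spec (CommRingCat.of k))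
    (Y : (Mst G r e).obj) (hY : Y.obj.base = Over.mk q) (hsm : Smooth Y.obj.f) :
    Nonempty (Datum (l0 (hi := hi) (hp := hp) o ho) Y.obj) := by
  obtain ⟨⟨⟨base, C, f, sect, sect_f⟩, μ, hμ⟩, hprop⟩ := Y
  dsimp only at hY hsm ⊢
  subst hY
  obtain ⟨⟨hfl, hpr, hlfp, hst⟩, hdeg⟩ := hprop
  obtain ⟨y, φ, b, hy, hφ, hφy, hb, hb0, hb1, hbb⟩ := core f sect sect_f h4 h3 hrec
    (fun Ω' _ _ t Xt i q hP => (hst Ω' t Xt i q hP).1)
  obtain ⟨g, hg, -⟩ := h5 (Over.mk q) b hb0 hb1 hbb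
  let A : CurvSt.PtFamObj (Spec (CommRingCat.of k)) r := ⟨Over.mk q, C, f, sect, sect_f⟩
  have hcart : IsPullback (φ.hom ≫ pmap g.left) f (pr (QO k r).left) g.left := by
    have h6 : IsPullback φ.hom f (pr _) (𝟙 _) := IsPullback.of_horiz_isIso ⟨by rw [hφ, Category.comp_id]⟩
    have h7 := h6.paste_horiz (isPullback_pmap g.left)
    rwa [Category.id_comp] at h7
  have wl : ∀ i, sect i ≫ (φ.hom ≫ pmap g.left) = g.left ≫ aff (xF k r i) := fun i => by
    have e1 : aff (b i) ≫ pmap g.left = g.left ≫ aff (xF k r i) := by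
      have := h1 g.left (xF k r i)
      rwa [hg i] at this
    exact ((Category.assoc _ _ _).symm.trans (congrArg (· ≫ pmap g.left) (hb i))).trans e1
  have wr : ∀ i, y i ≫ (φ.hom ≫ pmap g.left) = g.left ≫ std3 (QO k r).left i := fun i =>
    ((Category.assoc _ _ _).symm.trans (congrArg (· ≫ pmap g.left) (hφy i))).trans (std3_pmap h1 h2 g.left i)
  have key : ∀ i : Fin (r + 3), (Fin.addCases (motive := fun _ => Spec (CommRingCat.of Ω) ⟶ C) sect y i) ≫ (φ.hom ≫ pmap g.left) =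
      g.left ≫ (Fin.addCases (motive := fun _ => (QO k r).left ⟶ P1 (QO k r).left)
        (fun i => aff (xF k r i)) (std3 (QO k r).left) i) := by
    refine Fin.addCases (fun i => ?_) (fun i => ?_)
    · rw [Fin.addCases_left, Fin.addCases_left]; exact wl i
    · rw [Fin.addCases_right, Fin.addCases_right]; exact wr i
  let h : addM A y hy ⟶ B0 k r :=
    { base := g
      top := φ.hom ≫ pmap g.left
      cart := hcart
      w_sect := key }
  have hdegM := o.deg Ω g.left C (φ.hom ≫ pmap g.left) f hcart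
  have hdegN := hdeg Ω (𝟙 _) C (𝟙 C) f (isPullback_id f)
  rw [Category.id_comp] at hdegN
  obtain ⟨ε, hε, -, -⟩ := K188.LinP1.exists_iso_P1 Ω
  have hinvM : PicF.IsInvertible ((Scheme.Modules.pullback (φ.hom ≫ pmap g.left)).obj o.L) :=
    isInvertible_pullback _ o.inv
  have hinvN : PicF.IsInvertible ((Scheme.Modules.pullback μ).obj (hypO1 G)) :=
    isInvertible_pullback _ (isInvertible_pullback _ (isInvertible_O1 n k))
  obtain ⟨τ⟩ := nonempty_iso_of_deg (φ ≪≫ ε.symm)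
    (by rw [Iso.trans_hom, Category.assoc, Iso.symm_hom, ← hε, Iso.inv_hom_id_assoc, hφ]) hinvN hinvM
    (hdegN.trans hdegM.symm)
  have hgiv := ((GivenBy.refl (LefPen.hypIdeal G).subschemeι).comp μ).of_iso τ
  have hbas : ∀ l : Fin (n + 1), ∃ a : Fin (e + 1) → Γ(Spec (CommRingCat.of Ω), ⊤),
      τ.hom.app ⊤ (pullTop μ (tsec (LefPen.hypIdeal G).subschemeι l)) =
        ∑ j, (f.appTop (a j)) • pullTop (φ.hom ≫ pmap g.left) (o.ε j) := fun l =>
    (o.basis (φ.hom ≫ pmap g.left) f g.left hcart _).exists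
  choose a ha using hbas
  refine ⟨⟨y, hy, h, a, ?_⟩⟩
  have e3 : lc f (fun j => pullTop (φ.hom ≫ pmap g.left) (o.ε j)) a =
      fun l => τ.hom.app ⊤ (pullTop μ (tsec (LefPen.hypIdeal G).subschemeι l)) := funext fun l => (ha l).symm
  change GivenBy (μ ≫ (LefPen.hypIdeal G).subschemeι) ((Scheme.Modules.pullback (φ.hom ≫ pmap g.left)).obj o.L)
    (lc f (fun j => pullTop (φ.hom ≫ pmap g.left) (o.ε j)) a)
  rw [e3]
  exact hgiv

end Main

end K423.HonS
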