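import Groth.Agent.Fano.K423.HonS
import Groth.Agent.Fano.K639.HonA
import Groth.Agent.Fano.K15.HonB2

/-!
# Node HS of `K239.PlanHon2`
-/

set_option autoImplicit false

universe u

open CategoryTheory CategoryTheory.Limits AlgebraicGeometry

namespace K423.HonSF

open K188.LineDef K188.LinFun K745.ConDef K505.KonDef K239.HonDef W4swstmapratcurves

variable {k : Type u} [Field k] {n d r e : ℕ} {G : LefPen.Form n k d}
  {hi : IsPre (B0 k r)} {hp : ProdB0 k r} (o : Oe G (QO k r).hom e) (ho : OeStab o)

/-- Node HS: a stable map from a smooth curve has a datum for the chart. -/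
theorem exists_datum_of_smooth (hrec : Rec.{u}) {Ω : Type u} [Field Ω] [IsAlgClosed Ω] (q : Spec (CommRingCat.of Ω) ⟶ Spec (CommRingCat.of k))
    (Y : (Mst G r e).obj) (hY : Y.obj.base = Over.mk q) (hsm : Smooth Y.obj.f) :
    Nonempty (Datum (l0 (hi := hi) (hp := hp) o ho) Y.obj) :=
  K423.HonS.exists_datum o ho (fun g b => K639.HonA.aff_pmap g b) (fun g => K639.HonA.inf_pmap g)
    (fun s hs h => K639.HonA.exists_eq_aff s hs h) (fun b b' => K639.HonA.aff_ne_iff b b')
    (fun T b h0 h1 h => K15.HonB2.existsUnique_toQO k r T b h0 h1 h) hrec q Y hY hsm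

end K423.HonSF
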