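import Groth.Agent.Fano.K423.QOrb
import Groth.Agent.Fano.K980.QuotDim

/-!
# Nodes Q1 - Q4 of `K745.PlanH`

The quotient of the space of conics on a general hypersurface by the coordinate changes: node Q4 without hypotheses
(`K980.QuotDim.irreducible_and_dim` with Q1, Q2, Q3 inserted).
-/

set_option autoImplicit false

universe u

open CategoryTheory CategoryTheory.Limits AlgebraicGeometry

namespace K423.QDim

open K745.ConDef K745.HDef W4swstmapratcurves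

variable {n d : ℕ} {k : Type u} [Field k] [CharZero k] (G : LefPen.Form n k d)

/-- Node Q1. -/
theorem nine_le_ringKrullDim (Z : Set (PrimeSpectrum (RC G.1))) (_hZ : IsClosed Z)
    (hsat : ∀ p ∈ Z, p ∈ VO G.1 → ∀ p' ∈ VO G.1, Eqv G.1 p p' → p' ∈ Z) (p : PrimeSpectrum (RC G.1))
    (hp : p ∈ Z) (hpV : p ∈ VO G.1) (hmin : ∀ q ∈ Z, q ≤ p → q = p) :
    (9 : WithBot ℕ∞) ≤ ringKrullDim (RC G.1 ⧸ p.asIdeal) :=
  K423.QOrb.nine_le_ringKrullDim G.1 Z hsat p hp hpV hmin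

/-- Node Q2. -/
theorem eq_of_eqv (hn : 2 ≤ n) (p p' : PrimeSpectrum (RC G.1)) (hp : p ∈ SG G.1) (hp' : p' ∈ SG G.1)
    (h : Eqv G.1 p p') : p = p' := K423.QEqv.eq_of_eqv hn G.1 p p' hp hp' h

/-- Node Q3. -/
theorem isOpen_saturation (hn : 2 ≤ n) (W : Set (PrimeSpectrum (RC G.1))) (hW : IsOpen W) :
    IsOpen {p : PrimeSpectrum (RC G.1) | p ∈ VO G.1 ∧ ∃ s ∈ SG G.1, s ∈ W ∧ Eqv G.1 s p} :=
  haveI : NeZero (2 : k) := ⟨two_ne_zero⟩
  K423.QSat.isOpen_saturation G.1 hn W hW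

/-- Node Q4. -/
theorem irreducible_and_dim (_hd : 1 ≤ d) (hdn : d + 3 ≤ n) (hG : GoodG G) {M : Type*} [TopologicalSpace M]
    (π : VG G.1 → M) (hc : Continuous π) (ho : IsOpenMap π) (hs : Function.Surjective π)
    (he : ∀ p p' : VG G.1, π p = π p' ↔ Eqv G.1 p.1 p'.1) :
    IrreducibleSpace M ∧ topologicalKrullDim M = ((3 * n - 2 * d - 2 : ℕ) : WithBot ℕ∞) :=
  K980.QuotDim.irreducible_and_dim G (nine_le_ringKrullDim G) (eq_of_eqv G (by omega)) (isOpen_saturation G) hdn hG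
    π hc ho hs he

end K423.QDim
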