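import Groth.Agent.Fano.K423.QMat

/-!
# The slice meets an equivalence class at most once

* `ringHom_ext`: homomorphisms from `RC G` are determined by the scalars, `c` and `φ`;
* `eq_of_eqv`: node Q2 of `K745.PlanH` (with `2 ≤ n`).
-/

set_option autoImplicit false

universe u

open CategoryTheory CategoryTheory.Limits AlgebraicGeometry

namespace K423.QEqv

open K745.ConDef K745.HDef Matrix K423.QMat

variable {n : ℕ}

theorem ringHom_ext {R B : Type u} [CommRing R] [CommRing B] {G : MvPolynomial (Fin (n + 1)) R}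
    {α α' : RC G →+* B} (h0 : α.comp (algebraMap R (RC G)) = α'.comp (algebraMap R (RC G)))
    (h1 : ∀ i, α (mkR G (cU n R i)) = α' (mkR G (cU n R i)))
    (h2 : ∀ l j, α (mkR G (φU n R l j)) = α' (mkR G (φU n R l j))) : α = α' := by
  refine Ideal.Quotient.ringHom_ext ?_
  refine MvPolynomial.ringHom_ext (fun r => ?_) (fun i => ?_)
  · exact congr($h0 r)
  · rcases i with i | ⟨l, j⟩
    · exact h1 i
    · exact h2 l j

/-- At the points of the slice the first three rows form the identity matrix. -/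
theorem apply_φU_of_mem_SG {R Ω : Type u} [CommRing R] [CommRing Ω] {G : MvPolynomial (Fin (n + 1)) R}
    {p : PrimeSpectrum (RC G)} (hp : p ∈ SG G) {α : RC G →+* Ω} (hα : RingHom.ker α = p.asIdeal) (hn : 2 ≤ n)
    (i j : Fin 3) : α (mkR G (φU n R (row3 hn i) j)) = (1 : Matrix (Fin 3) (Fin 3) Ω) i j := by
  have h1 := hp.2 i j (row3 hn i) rfl
  rw [← hα, RingHom.mem_ker, map_sub, map_sub, sub_eq_zero] at h1
  rw [h1, Matrix.one_apply]
  split_ifs <;> simp

/-- The matrix of an equivalence with a point of the slice. -/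
theorem row3_eq_of_mem_SG {R Ω : Type u} [CommRing R] [CommRing Ω] {G : MvPolynomial (Fin (n + 1)) R}
    {p : PrimeSpectrum (RC G)} (hp : p ∈ SG G) {α : RC G →+* Ω} (hα : RingHom.ker α = p.asIdeal) (hn : 2 ≤ n)
    {φ : Fin (n + 1) → Fin 3 → Ω} {g : Matrix (Fin 3) (Fin 3) Ω}
    (hφ : ∀ l j, φ l j = ∑ i, α (mkR G (φU n R l i)) * g i j) (i j : Fin 3) : φ (row3 hn i) j = g i j := by
  rw [hφ]
  have h1 : ∑ m, α (mkR G (φU n R (row3 hn i) m)) * g m j = ((1 : Matrix (Fin 3) (Fin 3) Ω) * g) i j := by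
    rw [Matrix.mul_apply]
    exact Finset.sum_congr rfl fun m _ => by rw [apply_φU_of_mem_SG hp hα hn]
  rw [h1, Matrix.one_mul]

/-- Node Q2: the slice meets an equivalence class at most once. -/
theorem eq_of_eqv {k : Type u} [CommRing k] (hn : 2 ≤ n) (G : MvPolynomial (Fin (n + 1)) k)
    (p p' : PrimeSpectrum (RC G)) (hp : p ∈ SG G) (hp' : p' ∈ SG G) (h : Eqv G p p') : p = p' := by
  obtain ⟨Ω, _, α, α', hα, hα', h0, g, w, hg, hw, hq, hφ⟩ := h
  have hg1 : g = 1 := by
    ext i j
    rw [← row3_eq_of_mem_SG hp' hα' hn hφ i j, apply_φU_of_mem_SG hp hα hn]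
  subst hg1
  rw [comp3_one, ← comp3_one (qf fun i => α' (mkR G (cU n k i))), comp3_qf_iff] at hq
  simp only [Matrix.one_mulVec] at hq
  have hw1 : w = 1 := by simpa [qv] using (hq ![1, 0, 0]).symm
  subst hw1
  simp only [one_mul] at hq
  have hc : ∀ i, α (mkR G (cU n k i)) = α' (mkR G (cU n k i)) := by
    have e1 := hq ![0, 1, 0]
    have e2 := hq ![0, 0, 1]
    have e01 := hq ![1, 1, 0]
    have e02 := hq ![1, 0, 1]
    have e12 := hq ![0, 1, 1]
    simp [qv] at e1 e2 e01 e02 e12
    rw [e1] at e01 e12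
    rw [e2] at e02 e12
    intro i
    fin_cases i
    · exact (add_left_cancel (add_right_cancel e01)).symm
    · exact (add_left_cancel (add_right_cancel e02)).symm
    · exact e1.symm
    · exact (add_left_cancel (add_right_cancel e12)).symm
    · exact e2.symm
  have hαα : α = α' := by
    refine ringHom_ext h0 hc fun l j => ?_
    rw [hφ]
    simp [Matrix.one_apply]
  refine PrimeSpectrum.ext ?_
  rw [← hα, ← hα', hαα]

end K423.QEqv
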