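import Groth.Agent.Fano.K423.QEqv
import Mathlib.Algebra.MvPolynomial.Equiv
import Mathlib.Tactic.ComputeDegree

/-!
# Homomorphisms from the ring of conics on a hypersurface

* `dvd_iff_remCoeff`, `map_remCoeff`: the remainder modulo `qf c`;
* `exists_hom`, `dvd_of_hom`: homomorphisms from `RC G` are triples `(ρ, c, φ)` with `qf c ∣ G ∘ φ`.
-/

set_option autoImplicit false

universe u

open CategoryTheory CategoryTheory.Limits AlgebraicGeometry

namespace K423.QHom

open K745.ConDef K745.HDef Matrix K423.QMat K423.QEqv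

variable {A B : Type u} [CommRing A] [CommRing B]

theorem finSuccEquiv_qf (c : Fin 5 → A) : MvPolynomial.finSuccEquiv A 2 (qf c) =
    Polynomial.X ^ 2 + Polynomial.C (MvPolynomial.C (c 0) * MvPolynomial.X 0 + MvPolynomial.C (c 1) * MvPolynomial.X 1) *
      Polynomial.X + Polynomial.C (MvPolynomial.C (c 2) * MvPolynomial.X 0 ^ 2 +
        MvPolynomial.C (c 3) * (MvPolynomial.X 0 * MvPolynomial.X 1) + MvPolynomial.C (c 4) * MvPolynomial.X 1 ^ 2) := by
  have h0 : MvPolynomial.finSuccEquiv A 2 (MvPolynomial.X 0) = Polynomial.X := MvPolynomial.finSuccEquiv_X_zero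
  have h1 : MvPolynomial.finSuccEquiv A 2 (MvPolynomial.X 1) = Polynomial.C (MvPolynomial.X 0) :=
    MvPolynomial.finSuccEquiv_X_succ (j := 0)
  have h2 : MvPolynomial.finSuccEquiv A 2 (MvPolynomial.X 2) = Polynomial.C (MvPolynomial.X 1) :=
    MvPolynomial.finSuccEquiv_X_succ (j := 1)
  have hC : ∀ a : A, MvPolynomial.finSuccEquiv A 2 (MvPolynomial.C a) = Polynomial.C (MvPolynomial.C a) := fun a => by
    simp [MvPolynomial.finSuccEquiv_apply]
  simp only [qf, map_add, map_mul, map_pow, h0, h1, h2, hC]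
  ring

theorem monic_finSuccEquiv_qf (c : Fin 5 → A) : (MvPolynomial.finSuccEquiv A 2 (qf c)).Monic := by
  rw [finSuccEquiv_qf]
  monicity!

theorem finSuccEquiv_map (β : A →+* B) (F : MvPolynomial (Fin 3) A) :
    MvPolynomial.finSuccEquiv B 2 (F.map β) = (MvPolynomial.finSuccEquiv A 2 F).map (MvPolynomial.map β) := by
  have h : ((MvPolynomial.finSuccEquiv B 2 : MvPolynomial (Fin 3) B →+* Polynomial (MvPolynomial (Fin 2) B)).comp
      (MvPolynomial.map β)) = (Polynomial.mapRingHom (MvPolynomial.map β)).comp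
        (MvPolynomial.finSuccEquiv A 2 : MvPolynomial (Fin 3) A →+* Polynomial (MvPolynomial (Fin 2) A)) := by
    refine MvPolynomial.ringHom_ext (fun a => ?_) (fun i => ?_)
    · simp [MvPolynomial.finSuccEquiv_apply]
    · refine Fin.cases ?_ (fun j => ?_) i
      · simp [MvPolynomial.finSuccEquiv_apply]
      · simp [MvPolynomial.finSuccEquiv_apply]
  exact congr($h F)

theorem dvd_iff_remCoeff (c : Fin 5 → A) (F : MvPolynomial (Fin 3) A) :
    qf c ∣ F ↔ ∀ m e, remCoeff c F m e = 0 := by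
  have h1 : qf c ∣ F ↔ MvPolynomial.finSuccEquiv A 2 (qf c) ∣ MvPolynomial.finSuccEquiv A 2 F :=
    (map_dvd_iff (MvPolynomial.finSuccEquiv A 2)).symm
  rw [h1, ← Polynomial.modByMonic_eq_zero_iff_dvd (monic_finSuccEquiv_qf c)]
  constructor
  · intro h m e
    rw [remCoeff, h, Polynomial.coeff_zero, MvPolynomial.coeff_zero]
  · intro h
    ext m e
    rw [Polynomial.coeff_zero, MvPolynomial.coeff_zero]
    exact h m e

theorem map_remCoeff (β : A →+* B) (c : Fin 5 → A) (F : MvPolynomial (Fin 3) A) (m : ℕ) (e : Fin 2 →₀ ℕ) :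
    β (remCoeff c F m e) = remCoeff (fun i => β (c i)) (F.map β) m e := by
  rw [remCoeff, remCoeff, finSuccEquiv_map, ← map_qf, finSuccEquiv_map,
    ← Polynomial.map_modByMonic _ (monic_finSuccEquiv_qf c), Polynomial.coeff_map, MvPolynomial.coeff_map]

variable {n : ℕ}

theorem map_lin3 (β : A →+* B) (v : Fin 3 → A) : (lin3 v).map β = lin3 (fun i => β (v i)) := by
  simp [lin3]

theorem map_subF {R : Type u} [CommRing R] (ρ : R →+* A) (β : A →+* B) (G : MvPolynomial (Fin (n + 1)) R)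
    (φ : Fin (n + 1) → Fin 3 → A) : (subF ρ G φ).map β = subF (β.comp ρ) G (fun l i => β (φ l i)) := by
  have h1 := MvPolynomial.eval₂_comp_left (MvPolynomial.map β : MvPolynomial (Fin 3) A →+* MvPolynomial (Fin 3) B)
    (MvPolynomial.C.comp ρ) (fun l => lin3 (φ l)) G
  refine Eq.trans h1 ?_
  rw [subF]
  congr 1
  · ext b
    simp
  · funext l
    exact map_lin3 β (φ l)

theorem exists_hom {R : Type u} [CommRing R] (ρ : R →+* B) (G : MvPolynomial (Fin (n + 1)) R)
    (c : Fin 5 → B) (φ : Fin (n + 1) → Fin 3 → B) (h : qf c ∣ subF ρ G φ) :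
    ∃ α : RC G →+* B, α.comp (algebraMap R (RC G)) = ρ ∧ (∀ i, α (mkR G (cU n R i)) = c i) ∧
      ∀ l i, α (mkR G (φU n R l i)) = φ l i := by
  let β : AC n R →+* B := MvPolynomial.eval₂Hom ρ (Sum.elim c fun li => φ li.1 li.2)
  have hc : ∀ i, β (cU n R i) = c i := fun i => by simp [β, cU]
  have hφ : ∀ l i, β (φU n R l i) = φ l i := fun l i => by simp [β, φU]
  have hβ : β.comp MvPolynomial.C = ρ := by
    ext r
    simp [β]
  have hk : ∀ a ∈ conIdeal G, β a = 0 := by
    intro a ha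
    have h1 : conIdeal G ≤ RingHom.ker β := by
      refine Ideal.span_le.2 ?_
      rintro _ ⟨m, e, rfl⟩
      rw [SetLike.mem_coe, RingHom.mem_ker, map_remCoeff, map_subF, hβ]
      simp only [hc, hφ]
      exact (dvd_iff_remCoeff c _).1 h m e
    exact h1 ha
  refine ⟨Ideal.Quotient.lift (conIdeal G) β hk, ?_, fun i => ?_, fun l i => ?_⟩
  · rw [← hβ]
    rfl
  · exact (Ideal.Quotient.lift_mk _ _ _).trans (hc i)
  · exact (Ideal.Quotient.lift_mk _ _ _).trans (hφ l i)

theorem dvd_of_hom {R : Type u} [CommRing R] (G : MvPolynomial (Fin (n + 1)) R)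
    (α : RC G →+* B) : qf (fun i => α (mkR G (cU n R i))) ∣
      subF (α.comp (algebraMap R (RC G))) G (fun l i => α (mkR G (φU n R l i))) := by
  rw [dvd_iff_remCoeff]
  intro m e
  have h1 : mkR G (remCoeff (cU n R) (subF MvPolynomial.C G (φU n R)) m e) = 0 :=
    Ideal.Quotient.eq_zero_iff_mem.2 (Ideal.subset_span ⟨m, e, rfl⟩)
  have h2 := map_remCoeff (α.comp (mkR G)) (cU n R) (subF MvPolynomial.C G (φU n R)) m e
  rw [map_subF] at h2
  rw [RingHom.comp_apply, h1, map_zero] at h2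
  exact h2.symm

/-- Homomorphisms and divisibility after a change of coordinates. -/
theorem dvd_of_matrix {R : Type u} [CommRing R] (ρ : R →+* B) (G : MvPolynomial (Fin (n + 1)) R)
    {c c' : Fin 5 → B} {φ φ' : Fin (n + 1) → Fin 3 → B} {g : Matrix (Fin 3) (Fin 3) B} {w : B} (hw : IsUnit w)
    (hq : comp3 (qf c') g = MvPolynomial.C w * qf c) (hφ : ∀ l j, φ l j = ∑ i, φ' l i * g i j)
    (h : qf c' ∣ subF ρ G φ') : qf c ∣ subF ρ G φ := by
  have h1 := comp3_dvd g h
  rw [comp3_subF, hq] at h1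
  have h2 : (fun l j => ∑ i, φ' l i * g i j) = φ := by
    funext l j
    exact (hφ l j).symm
  rw [h2] at h1
  exact ((hw.map MvPolynomial.C).mul_left_dvd).1 h1

end K423.QHom
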