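import Groth.Agent.Fano.K423.QMat

/-!
# Infinitesimal coordinate changes preserving a conic and a map

* `eq_zero_of_cross`: the linear algebra of the stabilizer of a regular pair `(c, φ)`;
* `leibniz_qb`: derivations and the polar form.
-/

set_option autoImplicit false

universe u

namespace K423.QLin

open K745.ConDef K745.HDef Matrix K423.QMat

section Ring

variable {A : Type u} [CommRing A]

theorem qb_self (c : Fin 5 → A) (x : Fin 3 → A) : qb c x x = 2 * qv c x := by
  simp only [qb, qv]
  ring

theorem qb_comm (c : Fin 5 → A) (x y : Fin 3 → A) : qb c x y = qb c y x := by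
  simp only [qb]
  ring

theorem qb_smul_left (c : Fin 5 → A) (a : A) (x y : Fin 3 → A) : qb c (a • x) y = a * qb c x y := by
  simp only [qb, Pi.smul_apply, smul_eq_mul]
  ring

theorem qb_smul_right (c : Fin 5 → A) (a : A) (x y : Fin 3 → A) : qb c x (a • y) = a * qb c x y := by
  simp only [qb, Pi.smul_apply, smul_eq_mul]
  ring

theorem qb_add_left (c : Fin 5 → A) (x x' y : Fin 3 → A) : qb c (x + x') y = qb c x y + qb c x' y := by
  simp only [qb, Pi.add_apply]
  ring

theorem qb_add_right (c : Fin 5 → A) (x y y' : Fin 3 → A) : qb c x (y + y') = qb c x y + qb c x y' := by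
  simp only [qb, Pi.add_apply]
  ring

theorem qb_sum_right (c : Fin 5 → A) (x : Fin 3 → A) (y : Fin 3 → A) (v : Fin 3 → Fin 3 → A) :
    qb c x (∑ j, y j • v j) = ∑ j, y j * qb c x (v j) := by
  simp only [Fin.sum_univ_three, qb_add_right, qb_smul_right]

theorem leibniz_qb {F : Type u} [CommRing F] [Algebra F A] (d : Derivation F A A) (c : Fin 5 → A)
    (hc : ∀ i, d (c i) = 0) (x y : Fin 3 → A) :
    d (qb c x y) = qb c (fun i => d (x i)) y + qb c x (fun i => d (y i)) := by
  have h2 : d (2 : A) = 0 := by
    have := d.map_natCast 2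
    simpa using this
  simp only [qb, map_add, Derivation.leibniz, hc, h2, add_zero, smul_eq_mul, mul_zero]
  ring

end Ring

variable {Ω : Type u} [Field Ω]

/-- A vector orthogonal to two independent covectors is a multiple of their cross product. -/
theorem exists_eq_smul {a b v : Fin 3 → Ω} (he : crossProduct a b ≠ 0) (ha : a ⬝ᵥ v = 0) (hb : b ⬝ᵥ v = 0) :
    ∃ l : Ω, v = l • crossProduct a b := by
  obtain ⟨m, hm⟩ := Function.ne_iff.1 he
  rw [Pi.zero_apply] at hm
  have h0 : ∀ i j, crossProduct a b i * v j = crossProduct a b j * v i := by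
    simp only [dotProduct, Fin.sum_univ_three] at ha hb
    intro i j
    fin_cases i <;> fin_cases j <;>
      simp only [cross_apply, Fin.isValue, Fin.zero_eta, Fin.mk_one, Fin.reduceFinMk, Matrix.cons_val_zero,
        Matrix.cons_val_one, Matrix.cons_val]
    · linear_combination b 2 * ha - a 2 * hb
    · linear_combination (-b 1) * ha + a 1 * hb
    · linear_combination (-b 2) * ha + a 2 * hb
    · linear_combination b 0 * ha - a 0 * hb
    · linear_combination b 1 * ha - a 1 * hb
    · linear_combination (-b 0) * ha + a 0 * hb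
  refine ⟨v m / crossProduct a b m, ?_⟩
  funext j
  rw [Pi.smul_apply, smul_eq_mul, div_mul_eq_mul_div, eq_div_iff hm]
  have := h0 m j
  linear_combination this

/-- The linear algebra of the infinitesimal stabilizer of a regular pair whose map has rank two. -/
theorem eq_zero_of_cross [NeZero (2 : Ω)] {c : Fin 5 → Ω} {col dcol : Fin 3 → Fin 3 → Ω} {t : Ω} {a b y : Fin 3 → Ω}
    (hE : ∀ i j, qb c (dcol i) (col j) + qb c (col i) (dcol j) = t * qb c (col i) (col j))
    (ha : ∀ j, a ⬝ᵥ dcol j = 0) (hb : ∀ j, b ⬝ᵥ dcol j = 0) (he : qv c (crossProduct a b) ≠ 0)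
    (hy : crossProduct a b = ∑ j, y j • col j)
    (hr : ¬ ∃ (r : Ω) (s : Fin 3 → Ω), ∀ i j, qb c (col i) (col j) = r * (s i * s j)) : ∀ j, dcol j = 0 := by
  have he0 : crossProduct a b ≠ 0 := fun h => he (by rw [h]; simp [qv])
  choose l hl using fun j => exists_eq_smul he0 (ha j) (hb j)
  set e := crossProduct a b with hedef
  let s : Fin 3 → Ω := fun i => qb c (col i) e
  have h1 : ∀ i j, l i * s j + s i * l j = t * qb c (col i) (col j) := fun i j => by
    have := hE i j
    rw [hl i, hl j, qb_smul_left, qb_smul_right, qb_comm c e (col j)] at this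
    linear_combination this
  have h2 : ∑ j, y j * s j = 2 * qv c e := by
    have h3 : qb c e e = ∑ j, y j * qb c e (col j) := by
      have := qb_sum_right c e y col
      rwa [← hy] at this
    rw [← qb_self, h3]
    exact Finset.sum_congr rfl fun j _ => by rw [qb_comm c e]
  have h3 : ∀ i, qb c (col i) e = ∑ j, y j * qb c (col i) (col j) := fun i => by
    have := qb_sum_right c (col i) y col
    rwa [← hy] at this
  have hσ : 2 * qv c e ≠ 0 := mul_ne_zero (NeZero.ne _) he
  have h4 : ∀ i, (2 * qv c e) * l i = (t - ∑ j, y j * l j) * s i := fun i => by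
    have h5 : ∑ j, y j * (l i * s j + s i * l j) = ∑ j, y j * (t * qb c (col i) (col j)) :=
      Finset.sum_congr rfl fun j _ => by rw [h1]
    have h6 : s i = ∑ j, y j * qb c (col i) (col j) := h3 i
    rw [← h2]
    simp only [Fin.sum_univ_three] at h5 h6 ⊢
    linear_combination h5 - t * h6
  let m : Ω := (t - ∑ j, y j * l j) / (2 * qv c e)
  have h5 : ∀ i, l i = m * s i := fun i => by
    simp only [m]
    rw [div_mul_eq_mul_div, eq_div_iff hσ, ← h4 i]
    ring
  have h6 : ∀ i j, 2 * m * (s i * s j) = t * qb c (col i) (col j) := fun i j => by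
    rw [← h1 i j, h5 i, h5 j]
    ring
  have ht : t = 0 := by
    by_contra ht
    refine hr ⟨2 * m / t, s, fun i j => ?_⟩
    rw [div_mul_eq_mul_div, eq_div_iff ht, h6]
    ring
  have hm : m = 0 := by
    by_contra hm
    have h7 : ∀ j, s j = 0 := fun j => by
      have h8 := h6 j j
      rw [ht, zero_mul] at h8
      rcases mul_eq_zero.1 h8 with h9 | h9
      · exact absurd h9 (mul_ne_zero (NeZero.ne _) hm)
      · exact mul_self_eq_zero.1 h9
    apply hσ
    rw [← h2]
    simp [h7]
  intro j
  rw [hl j, h5 j, hm, zero_mul, zero_smul]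

end K423.QLin
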