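import Groth.Agent.Fano.K745.HDef

/-!
# Changes of coordinates for conics: linear algebra

* `qv c x`: the value of `qf c` at the vector `x`; `comp3_qf_iff`: `comp3 (qf c') g = C w * qf c` iff
  `qv c' (g x) = w * qv c x` for all vectors `x`;
* `exists_regPoly_ne_zero`: regular pairs are stable under changes of coordinates;
* `comp3_comp3`, `comp3_subF`, `comp3_C_mul`: composition.
-/

set_option autoImplicit false

universe u

open CategoryTheory CategoryTheory.Limits AlgebraicGeometry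

namespace K423.QMat

open K745.ConDef K745.HDef Matrix

section Ring

variable {A B : Type u} [CommRing A] [CommRing B]

/-- The value of the form `qf c` at a vector. -/
def qv (c : Fin 5 → A) (x : Fin 3 → A) : A :=
  x 0 ^ 2 + c 0 * (x 0 * x 1) + c 1 * (x 0 * x 2) + c 2 * x 1 ^ 2 + c 3 * (x 1 * x 2) + c 4 * x 2 ^ 2

/-- The polar form. -/
def qb (c : Fin 5 → A) (x y : Fin 3 → A) : A :=
  2 * (x 0 * y 0) + c 0 * (x 0 * y 1 + x 1 * y 0) + c 1 * (x 0 * y 2 + x 2 * y 0) + 2 * c 2 * (x 1 * y 1) +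
    c 3 * (x 1 * y 2 + x 2 * y 1) + 2 * c 4 * (x 2 * y 2)

theorem eval_qf (c : Fin 5 → A) (x : Fin 3 → A) : MvPolynomial.eval x (qf c) = qv c x := by
  simp [qf, qv]

theorem eval_lin3 (v x : Fin 3 → A) : MvPolynomial.eval x (lin3 v) = ∑ i, v i * x i := by
  simp [lin3]

theorem eval_comp3 (F : MvPolynomial (Fin 3) A) (g : Matrix (Fin 3) (Fin 3) A) (x : Fin 3 → A) :
    MvPolynomial.eval x (comp3 F g) = MvPolynomial.eval (g *ᵥ x) F := by
  have h1 := MvPolynomial.eval₂_comp_left (MvPolynomial.eval x) (algebraMap A (MvPolynomial (Fin 3) A))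
    (fun i => lin3 (g i)) F
  rw [comp3, MvPolynomial.aeval_def, h1, MvPolynomial.eval]
  have h2 : (MvPolynomial.eval₂Hom (RingHom.id A) x).comp (algebraMap A (MvPolynomial (Fin 3) A)) = RingHom.id A := by
    ext a
    simp [MvPolynomial.algebraMap_eq]
  have h3 : (MvPolynomial.eval₂Hom (RingHom.id A) x : MvPolynomial (Fin 3) A → A) ∘ (fun i => lin3 (g i)) =
      g *ᵥ x := by
    funext i
    exact eval_lin3 (g i) x
  rw [h2, h3]
  rfl

/-- The coefficients of `comp3 (qf c) g`. -/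
theorem comp3_qf (c : Fin 5 → A) (g : Matrix (Fin 3) (Fin 3) A) :
    comp3 (qf c) g = MvPolynomial.C (qv c (fun i => g i 0)) * MvPolynomial.X 0 ^ 2 +
      MvPolynomial.C (qb c (fun i => g i 0) (fun i => g i 1)) * (MvPolynomial.X 0 * MvPolynomial.X 1) +
      MvPolynomial.C (qb c (fun i => g i 0) (fun i => g i 2)) * (MvPolynomial.X 0 * MvPolynomial.X 2) +
      MvPolynomial.C (qv c (fun i => g i 1)) * MvPolynomial.X 1 ^ 2 +
      MvPolynomial.C (qb c (fun i => g i 1) (fun i => g i 2)) * (MvPolynomial.X 1 * MvPolynomial.X 2) +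
      MvPolynomial.C (qv c (fun i => g i 2)) * MvPolynomial.X 2 ^ 2 := by
  simp only [comp3, qf, lin3, qv, qb, Fin.sum_univ_three, map_add, map_mul, map_pow, MvPolynomial.aeval_X,
    MvPolynomial.algHom_C, MvPolynomial.algebraMap_eq, map_ofNat]
  ring

theorem qv_add (c : Fin 5 → A) (x y : Fin 3 → A) : qv c (x + y) = qv c x + qb c x y + qv c y := by
  simp only [qv, qb, Pi.add_apply]
  ring

theorem qb_eq (c : Fin 5 → A) (x y : Fin 3 → A) : qb c x y = qv c (x + y) - qv c x - qv c y := by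
  rw [qv_add]; ring

/-- The polynomial identity is equivalent to the identity of values. -/
theorem comp3_qf_iff (c c' : Fin 5 → A) (g : Matrix (Fin 3) (Fin 3) A) (w : A) :
    comp3 (qf c') g = MvPolynomial.C w * qf c ↔ ∀ x, qv c' (g *ᵥ x) = w * qv c x := by
  constructor
  · intro h x
    have h1 := congrArg (MvPolynomial.eval x) h
    rwa [eval_comp3, eval_qf, map_mul, MvPolynomial.eval_C, eval_qf] at h1
  · intro h
    have hcol : ∀ j, (fun i => g i j) = g *ᵥ (Pi.single j 1) := fun j => by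
      funext i
      simp
    have e0 : qv c (Pi.single 0 1) = 1 := by simp [qv]
    have e1 : qv c (Pi.single 1 1) = c 2 := by simp [qv]
    have e2 : qv c (Pi.single 2 1) = c 4 := by simp [qv]
    have e01 : qb c (Pi.single 0 1) (Pi.single 1 1) = c 0 := by simp [qb]
    have e02 : qb c (Pi.single 0 1) (Pi.single 2 1) = c 1 := by simp [qb]
    have e12 : qb c (Pi.single 1 1) (Pi.single 2 1) = c 3 := by simp [qb]
    have hb : ∀ x y, qb c' (g *ᵥ x) (g *ᵥ y) = w * qb c x y := fun x y => by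
      rw [qb_eq, qb_eq, ← Matrix.mulVec_add, h, h, h]
      ring
    rw [comp3_qf, hcol 0, hcol 1, hcol 2, h, h, h, hb, hb, hb, e0, e1, e2, e01, e02, e12]
    simp only [qf, map_mul, map_one]
    ring

theorem comp3_one (F : MvPolynomial (Fin 3) A) : comp3 F 1 = F := by
  have h1 : (fun i => lin3 ((1 : Matrix (Fin 3) (Fin 3) A) i)) = MvPolynomial.X := by
    funext i
    fin_cases i <;> simp [lin3, Matrix.one_apply]
  rw [comp3, h1, MvPolynomial.aeval_X_left_apply]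

theorem comp3_mul (F H : MvPolynomial (Fin 3) A) (g : Matrix (Fin 3) (Fin 3) A) :
    comp3 (F * H) g = comp3 F g * comp3 H g := map_mul _ _ _

theorem comp3_dvd {F H : MvPolynomial (Fin 3) A} (g : Matrix (Fin 3) (Fin 3) A) (h : F ∣ H) :
    comp3 F g ∣ comp3 H g := map_dvd _ h

theorem comp3_lin3 (v : Fin 3 → A) (g : Matrix (Fin 3) (Fin 3) A) :
    comp3 (lin3 v) g = lin3 (fun j => ∑ i, v i * g i j) := by
  simp only [comp3, lin3, Fin.sum_univ_three, map_add, map_mul, MvPolynomial.aeval_X,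
    MvPolynomial.algHom_C, MvPolynomial.algebraMap_eq]
  ring

variable {n : ℕ}

theorem comp3_subF (ρ : B →+* A) (G : MvPolynomial (Fin (n + 1)) B) (φ : Fin (n + 1) → Fin 3 → A)
    (g : Matrix (Fin 3) (Fin 3) A) : comp3 (subF ρ G φ) g = subF ρ G (fun l j => ∑ i, φ l i * g i j) := by
  have h1 := MvPolynomial.eval₂_comp_left
    (MvPolynomial.aeval (fun i => lin3 (g i)) : MvPolynomial (Fin 3) A →ₐ[A] MvPolynomial (Fin 3) A).toRingHom
    (MvPolynomial.C.comp ρ) (fun l => lin3 (φ l)) G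
  refine Eq.trans h1 ?_
  rw [subF]
  congr 1
  · ext b
    simp
  · funext l
    exact comp3_lin3 (φ l) g

theorem det3_mul (φ φ' : Fin (n + 1) → Fin 3 → A) (g : Matrix (Fin 3) (Fin 3) A)
    (h : ∀ l j, φ l j = ∑ i, φ' l i * g i j) (l : Fin 3 → Fin (n + 1)) : det3 φ l = det3 φ' l * g.det := by
  rw [det3, det3, ← Matrix.det_mul]
  congr 1
  ext i j
  rw [Matrix.of_apply, Matrix.mul_apply, h]
  rfl

/-- The cross product of two transformed covectors. -/
theorem mulVec_cross (g : Matrix (Fin 3) (Fin 3) A) (a b a' b' : Fin 3 → A) (ha : ∀ j, a j = ∑ i, a' i * g i j)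
    (hb : ∀ j, b j = ∑ i, b' i * g i j) : g *ᵥ (crossProduct a b) = g.det • (crossProduct a' b') := by
  have ha' := ha
  simp only [Fin.sum_univ_three] at ha hb
  funext i
  rw [Matrix.det_fin_three]
  fin_cases i <;>
    simp only [Matrix.mulVec, dotProduct, Fin.sum_univ_three, cross_apply, ha, hb, Pi.smul_apply, smul_eq_mul,
      Fin.isValue, Fin.zero_eta, Fin.mk_one, Fin.reduceFinMk, Matrix.cons_val_zero, Matrix.cons_val_one,
      Matrix.cons_val] <;> ring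

theorem qv_smul (c : Fin 5 → A) (a : A) (x : Fin 3 → A) : qv c (a • x) = a ^ 2 * qv c x := by
  simp only [qv, Pi.smul_apply, smul_eq_mul]
  ring

/-- Composition of changes of coordinates. -/
theorem rel_comp {c c' c'' : Fin 5 → A} {g h : Matrix (Fin 3) (Fin 3) A} {w w' : A}
    (h1 : ∀ x, qv c' (g *ᵥ x) = w * qv c x) (h2 : ∀ x, qv c'' (h *ᵥ x) = w' * qv c' x) :
    ∀ x, qv c'' ((h * g) *ᵥ x) = (w' * w) * qv c x := fun x => by
  rw [← Matrix.mulVec_mulVec, h2, h1]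
  ring

theorem rel_inv {c c' : Fin 5 → A} {g : Matrix (Fin 3) (Fin 3) A} {w v : A} (hg : IsUnit g.det) (hw : v * w = 1)
    (h1 : ∀ x, qv c' (g *ᵥ x) = w * qv c x) : ∀ x, qv c (g⁻¹ *ᵥ x) = v * qv c' x := fun x => by
  have h2 := h1 (g⁻¹ *ᵥ x)
  rw [Matrix.mulVec_mulVec, Matrix.mul_nonsing_inv _ hg, Matrix.one_mulVec] at h2
  rw [h2, ← mul_assoc, hw, one_mul]

theorem row_inv {φ φ' : Fin (n + 1) → Fin 3 → A} {g : Matrix (Fin 3) (Fin 3) A} (hg : IsUnit g.det)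
    (h : ∀ l j, φ l j = ∑ i, φ' l i * g i j) : ∀ l j, φ' l j = ∑ i, φ l i * g⁻¹ i j := by
  intro l j
  have h1 : φ l = Matrix.vecMul (φ' l) g := by
    funext j
    rw [h]
    rfl
  have h2 : Matrix.vecMul (φ l) g⁻¹ = φ' l := by
    rw [h1, Matrix.vecMul_vecMul, Matrix.mul_nonsing_inv _ hg, Matrix.vecMul_one]
  exact (congrFun h2 j).symm

end Ring

section Field

variable {Ω : Type u} [Field Ω] {n : ℕ}

/-- If `qf c` has rank one, so has every form obtained by a change of coordinates. -/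
theorem disc3_eq_zero [NeZero (2 : Ω)] {c c' : Fin 5 → Ω} {g : Matrix (Fin 3) (Fin 3) Ω} {w : Ω}
    (h : ∀ x, qv c' (g *ᵥ x) = w * qv c x) (hg : IsUnit g.det) (hw : w ≠ 0) (h0 : ∀ i, disc3 c i = 0) :
    ∀ i, disc3 c' i = 0 := by
  have hv : w⁻¹ * w = 1 := inv_mul_cancel₀ hw
  have h1 := rel_inv hg hv h
  have h2 : (2 : Ω) ≠ 0 := NeZero.ne _
  -- `4 qv c x = ℓ(x)²`
  have h3 : ∀ x : Fin 3 → Ω, 4 * qv c x = (2 * x 0 + c 0 * x 1 + c 1 * x 2) ^ 2 := fun x => by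
    have a0 : 4 * c 2 - c 0 ^ 2 = 0 := h0 0
    have a1 : 4 * c 3 - 2 * c 0 * c 1 = 0 := h0 1
    have a2 : 4 * c 4 - c 1 ^ 2 = 0 := h0 2
    rw [qv]
    linear_combination x 1 ^ 2 * a0 + x 1 * x 2 * a1 + x 2 ^ 2 * a2
  have h4 : ∀ x : Fin 3 → Ω, 4 * qv c' x = w * (2 * (g⁻¹ *ᵥ x) 0 + c 0 * (g⁻¹ *ᵥ x) 1 + c 1 * (g⁻¹ *ᵥ x) 2) ^ 2 :=
    fun x => by
      rw [← h3, h1]
      field_simp
  let m : Fin 3 → Ω := fun j => 2 * g⁻¹ 0 j + c 0 * g⁻¹ 1 j + c 1 * g⁻¹ 2 j
  have h5 : ∀ x : Fin 3 → Ω, 4 * qv c' x = w * (m 0 * x 0 + m 1 * x 1 + m 2 * x 2) ^ 2 := fun x => by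
    rw [h4]
    congr 2
    simp only [Matrix.mulVec, dotProduct, Fin.sum_univ_three, m]
    ring
  have e0 : 4 = w * m 0 ^ 2 := by simpa [qv] using h5 ![1, 0, 0]
  have e1 : 4 * c' 2 = w * m 1 ^ 2 := by simpa [qv] using h5 ![0, 1, 0]
  have e2 : 4 * c' 4 = w * m 2 ^ 2 := by simpa [qv] using h5 ![0, 0, 1]
  have e01 : 4 * (1 + c' 0 + c' 2) = w * (m 0 + m 1) ^ 2 := by simpa [qv] using h5 ![1, 1, 0]
  have e02 : 4 * (1 + c' 1 + c' 4) = w * (m 0 + m 2) ^ 2 := by simpa [qv] using h5 ![1, 0, 1]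
  have e12 : 4 * (c' 2 + c' 3 + c' 4) = w * (m 1 + m 2) ^ 2 := by simpa [qv] using h5 ![0, 1, 1]
  have f0 : 2 * c' 0 = w * (m 0 * m 1) := mul_left_cancel₀ h2 (by linear_combination e01 - e0 - e1)
  have f1 : 2 * c' 1 = w * (m 0 * m 2) := mul_left_cancel₀ h2 (by linear_combination e02 - e0 - e2)
  have f3 : 2 * c' 3 = w * (m 1 * m 2) := mul_left_cancel₀ h2 (by linear_combination e12 - e1 - e2)
  intro i
  fin_cases i
  · change 4 * c' 2 - c' 0 ^ 2 = 0
    refine mul_left_cancel₀ (pow_ne_zero 2 h2) ?_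
    linear_combination 4 * e1 - (2 * c' 0 + w * (m 0 * m 1)) * f0 + w * m 1 ^ 2 * e0
  · change 4 * c' 3 - 2 * c' 0 * c' 1 = 0
    refine mul_left_cancel₀ h2 ?_
    linear_combination 4 * f3 - 2 * c' 1 * f0 - w * (m 0 * m 1) * f1 + w * (m 1 * m 2) * e0
  · change 4 * c' 4 - c' 1 ^ 2 = 0
    refine mul_left_cancel₀ (pow_ne_zero 2 h2) ?_
    linear_combination 4 * e2 - (2 * c' 1 + w * (m 0 * m 2)) * f1 + w * m 2 ^ 2 * e0

/-- Regular pairs are stable under changes of coordinates. -/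
theorem exists_regPoly_ne_zero [NeZero (2 : Ω)] {c c' : Fin 5 → Ω} {φ φ' : Fin (n + 1) → Fin 3 → Ω}
    {g : Matrix (Fin 3) (Fin 3) Ω} {w : Ω} (h : ∀ x, qv c' (g *ᵥ x) = w * qv c x) (hg : IsUnit g.det)
    (hw : w ≠ 0) (hφ : ∀ l j, φ l j = ∑ i, φ' l i * g i j) (h0 : ∃ i, regPoly c' φ' i ≠ 0) :
    ∃ i, regPoly c φ i ≠ 0 := by
  obtain ⟨⟨i, b⟩, hi⟩ := h0
  have h1 : disc3 c' i ≠ 0 := left_ne_zero_of_mul hi
  have h2 : bpf c' φ' b ≠ 0 := right_ne_zero_of_mul hi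
  have h3 : ∃ i, disc3 c i ≠ 0 := by
    by_contra hcon
    push Not at hcon
    exact h1 (disc3_eq_zero h hg hw hcon i)
  obtain ⟨i', hi'⟩ := h3
  refine ⟨⟨i', b⟩, mul_ne_zero hi' ?_⟩
  cases b with
  | inl l =>
    change det3 φ l ≠ 0
    rw [det3_mul φ φ' g hφ]
    exact mul_ne_zero h2 hg.ne_zero
  | inr ab =>
    change MvPolynomial.eval (crossProduct (φ ab.1) (φ ab.2)) (qf c) ≠ 0
    have h4 : MvPolynomial.eval (crossProduct (φ' ab.1) (φ' ab.2)) (qf c') ≠ 0 := h2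
    rw [eval_qf] at h4 ⊢
    intro h5
    have h6 := h (crossProduct (φ ab.1) (φ ab.2))
    rw [mulVec_cross g _ _ _ _ (hφ ab.1) (hφ ab.2), qv_smul, h5, mul_zero] at h6
    rcases mul_eq_zero.1 h6 with h7 | h7
    · exact hg.ne_zero (pow_eq_zero_iff two_ne_zero |>.1 h7)
    · exact h4 h7

end Field

end K423.QMat
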