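import Groth.Agent.Fano.K423.QHom

/-!
# The saturation of an open subset of the slice is open

* `isOpen_saturation`: node Q3 of `K745.PlanH`.
-/

set_option autoImplicit false

universe u

open CategoryTheory CategoryTheory.Limits AlgebraicGeometry

namespace K423.QSat

open K745.ConDef K745.HDef Matrix K423.QMat K423.QEqv K423.QHom

variable {n : ℕ}

section Coef

variable {A : Type u} [CommRing A]

/-- Two forms `qf` with proportional values agree. -/
theorem eq_of_rel {c c' : Fin 5 → A} {w w' : A} (hw : IsUnit w) (h : ∀ x, w * qv c x = w' * qv c' x) :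
    w = w' ∧ ∀ i, c i = c' i := by
  have e0 : w = w' := by simpa [qv] using h ![1, 0, 0]
  subst e0
  have h' : ∀ x, qv c x = qv c' x := fun x => hw.mul_left_cancel (h x)
  refine ⟨rfl, ?_⟩
  have e1 := h' ![0, 1, 0]
  have e2 := h' ![0, 0, 1]
  have e01 := h' ![1, 1, 0]
  have e02 := h' ![1, 0, 1]
  have e12 := h' ![0, 1, 1]
  simp [qv] at e1 e2 e01 e02 e12
  rw [e1] at e01 e12
  rw [e2] at e02 e12
  intro i
  fin_cases i
  · exact add_left_cancel (add_right_cancel e01)
  · exact add_left_cancel (add_right_cancel e02)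
  · exact e1
  · exact add_left_cancel (add_right_cancel e12)
  · exact e2

/-- The coefficients of `comp3 (qf c) g` divided by the first one. -/
def tc (c : Fin 5 → A) (g : Matrix (Fin 3) (Fin 3) A) (v : A) : Fin 5 → A :=
  ![v * qb c (fun i => g i 0) (fun i => g i 1), v * qb c (fun i => g i 0) (fun i => g i 2),
    v * qv c (fun i => g i 1), v * qb c (fun i => g i 1) (fun i => g i 2), v * qv c (fun i => g i 2)]

theorem comp3_qf_tc (c : Fin 5 → A) (g : Matrix (Fin 3) (Fin 3) A) {v : A}
    (hv : qv c (fun i => g i 0) * v = 1) :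
    comp3 (qf c) g = MvPolynomial.C (qv c (fun i => g i 0)) * qf (tc c g v) := by
  have h1 : ∀ b : A, MvPolynomial.C (σ := Fin 3) b =
      MvPolynomial.C (qv c (fun i => g i 0)) * MvPolynomial.C (v * b) := fun b => by
    rw [← map_mul, ← mul_assoc, hv, one_mul]
  rw [comp3_qf, h1 (qb c (fun i => g i 0) (fun i => g i 1)), h1 (qb c (fun i => g i 0) (fun i => g i 2)),
    h1 (qv c (fun i => g i 1)), h1 (qb c (fun i => g i 1) (fun i => g i 2)), h1 (qv c (fun i => g i 2))]
  simp only [qf, tc, Matrix.cons_val_zero, Matrix.cons_val_one, Matrix.cons_val]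
  ring

theorem map_qv {B : Type u} [CommRing B] (β : A →+* B) (c : Fin 5 → A) (x : Fin 3 → A) :
    β (qv c x) = qv (fun i => β (c i)) (fun i => β (x i)) := by
  simp [qv]

end Coef

variable {k : Type u} [Field k] (G : MvPolynomial (Fin (n + 1)) k) (hn : 2 ≤ n)

/-- The pair at a ring homomorphism from `RC G`. -/
noncomputable abbrev cAt {B : Type u} [CommRing B] {G : MvPolynomial (Fin (n + 1)) k} (α : RC G →+* B) (i : Fin 5) : B :=
  α (mkR G (cU n k i))

/-- The pair at a ring homomorphism from `RC G`. -/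
noncomputable abbrev φAt {B : Type u} [CommRing B] {G : MvPolynomial (Fin (n + 1)) k} (α : RC G →+* B) (l : Fin (n + 1))
    (i : Fin 3) : B := α (mkR G (φU n k l i))

theorem map_regPoly {A B : Type u} [CommRing A] [CommRing B] (β : A →+* B) (c : Fin 5 → A)
    (φ : Fin (n + 1) → Fin 3 → A) (i : Fin 3 × ((Fin 3 → Fin (n + 1)) ⊕ (Fin (n + 1) × Fin (n + 1)))) :
    β (regPoly c φ i) = regPoly (fun i => β (c i)) (fun l j => β (φ l j)) i := by
  obtain ⟨i, b⟩ := i
  simp only [regPoly, map_mul]
  congr 1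
  · fin_cases i <;> simp [disc3, map_ofNat]
  · cases b with
    | inl l =>
      simp only [bpf, det3]
      rw [RingHom.map_det]
      rfl
    | inr ab =>
      simp only [bpf]
      rw [eval_qf, eval_qf, map_qv]
      congr 1
      funext i
      fin_cases i <;> simp [cross_apply]

/-- Points of `VO` in terms of the homomorphism to a field. -/
theorem mem_VO_iff {Ω : Type u} [Field Ω] {G : MvPolynomial (Fin (n + 1)) k} {α : RC G →+* Ω}
    {p : PrimeSpectrum (RC G)} (hα : RingHom.ker α = p.asIdeal) :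
    p ∈ VO G ↔ ∃ i, regPoly (cAt α) (φAt α) i ≠ 0 := by
  have h1 : p ∈ VO G ↔ ∃ i, mkR G (regPoly (cU n k) (φU n k) i) ∉ p.asIdeal :=
    TopologicalSpace.Opens.mem_iSup
  rw [h1]
  refine exists_congr fun i => not_congr ?_
  rw [← hα, RingHom.mem_ker, map_regPoly, map_regPoly]

section Sat

/-- The first three rows. -/
noncomputable def M3 {B : Type u} [CommRing B] (φ : Fin (n + 1) → Fin 3 → B) : Matrix (Fin 3) (Fin 3) B :=
  Matrix.of fun i j => φ (row3 hn i) j

/-- The function which is invertible where the retraction to the slice is defined. -/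
noncomputable def fS : RC G :=
  (M3 hn (φAt (RingHom.id (RC G)))).det *
    qv (cAt (RingHom.id (RC G))) (fun i => (M3 hn (φAt (RingHom.id (RC G)))).adjugate i 0)

variable {G hn}

theorem map_fS {B : Type u} [CommRing B] (α : RC G →+* B) : α (fS G hn) =
    (M3 hn (φAt α)).det * qv (cAt α) (fun i => (M3 hn (φAt α)).adjugate i 0) := by
  have h1 : α.mapMatrix (M3 hn (φAt (RingHom.id (RC G)))) = M3 hn (φAt α) := by
    ext i j
    rfl
  rw [fS, map_mul, RingHom.map_det, h1, map_qv]
  have h2 := RingHom.map_adjugate α (M3 hn (φAt (RingHom.id (RC G))))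
  rw [h1] at h2
  rw [← h2]
  rfl

/-- The value at the first column of the inverse matrix. -/
theorem qv_inv {B : Type u} [CommRing B] (c : Fin 5 → B) (M : Matrix (Fin 3) (Fin 3) B) :
    qv c (fun i => M⁻¹ i 0) = Ring.inverse M.det ^ 2 * qv c (fun i => M.adjugate i 0) := by
  rw [Matrix.inv_def]
  exact qv_smul c _ (fun i => M.adjugate i 0)

theorem map_inv {A B : Type u} [CommRing A] [CommRing B] (γ : A →+* B) (M : Matrix (Fin 3) (Fin 3) A)
    (hM : IsUnit M.det) : γ.mapMatrix M⁻¹ = (γ.mapMatrix M)⁻¹ := by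
  refine (Matrix.inv_eq_left_inv ?_).symm
  rw [← map_mul, Matrix.nonsing_inv_mul _ hM, map_one]

/-- The retraction to the slice. -/
theorem exists_retraction : ∃ (β : RC G →+* Localization.Away (fS G hn))
    (N : Matrix (Fin 3) (Fin 3) (Localization.Away (fS G hn))) (w : Localization.Away (fS G hn)), IsUnit w ∧
    M3 hn (φAt (algebraMap (RC G) (Localization.Away (fS G hn)))) * N = 1 ∧
    β.comp (algebraMap k (RC G)) = (algebraMap (RC G) (Localization.Away (fS G hn))).comp (algebraMap k (RC G)) ∧
    comp3 (qf (cAt (algebraMap (RC G) (Localization.Away (fS G hn))))) N = MvPolynomial.C w * qf (cAt β) ∧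
    ∀ l j, φAt β l j = ∑ i, φAt (algebraMap (RC G) (Localization.Away (fS G hn))) l i * N i j := by
  set a := algebraMap (RC G) (Localization.Away (fS G hn)) with ha
  let M := M3 hn (φAt a)
  have hf : IsUnit (a (fS G hn)) := IsLocalization.Away.algebraMap_isUnit _
  rw [map_fS] at hf
  have hM : IsUnit M.det := isUnit_of_mul_isUnit_left hf
  have hq : IsUnit (qv (cAt a) (fun i => M.adjugate i 0)) := isUnit_of_mul_isUnit_right hf
  have hw : IsUnit (qv (cAt a) (fun i => M⁻¹ i 0)) := by
    rw [qv_inv]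
    exact (hM.ringInverse.pow 2).mul hq
  obtain ⟨v, hv⟩ := hw.exists_right_inv
  have h1 := comp3_qf_tc (cAt a) M⁻¹ hv
  obtain ⟨β, h2, h3, h4⟩ := exists_hom (a.comp (algebraMap k (RC G))) G (tc (cAt a) M⁻¹ v)
    (fun l j => ∑ i, φAt a l i * M⁻¹ i j)
    (dvd_of_matrix _ G hw h1 (fun _ _ => rfl) (dvd_of_hom G a))
  refine ⟨β, M⁻¹, _, hw, Matrix.mul_nonsing_inv _ hM, h2, ?_, h4⟩
  rw [h1]
  congr 2
  funext i
  exact (h3 i).symm

/-- Node Q3: the saturation of an open subset of the slice is open. -/
theorem isOpen_saturation [NeZero (2 : k)] (G : MvPolynomial (Fin (n + 1)) k) (hn : 2 ≤ n)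
    (W : Set (PrimeSpectrum (RC G))) (hW : IsOpen W) :
    IsOpen {p : PrimeSpectrum (RC G) | p ∈ VO G ∧ ∃ s ∈ SG G, s ∈ W ∧ Eqv G s p} := by
  obtain ⟨β, N, w, hw, hMN, hβ, hq, hφ⟩ := exists_retraction (G := G) (hn := hn)
  set a := algebraMap (RC G) (Localization.Away (fS G hn)) with ha
  have h2Ω : ∀ (Ω : Type u) [Field Ω] (_ : RC G →+* Ω), NeZero (2 : Ω) := fun Ω _ α => by
    refine ⟨?_⟩
    have h1 : (2 : Ω) = (α.comp (algebraMap k (RC G))) 2 := (map_ofNat (α.comp (algebraMap k (RC G))) 2).symm
    rw [h1]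
    exact (map_ne_zero _).2 (NeZero.ne _)
  have hdetN : IsUnit N.det := by
    have h1 := congrArg Matrix.det hMN
    rw [Matrix.det_mul, Matrix.det_one] at h1
    exact IsUnit.of_mul_eq_one_right _ h1
  -- the images of the data under a homomorphism
  have hγ : ∀ {Ω : Type u} [Field Ω] (γ : Localization.Away (fS G hn) →+* Ω),
      comp3 (qf (cAt (γ.comp a))) (γ.mapMatrix N) = MvPolynomial.C (γ w) * qf (cAt (γ.comp β)) := by
    intro Ω _ γ
    rw [comp3_qf_iff]
    have h1 := congrArg (MvPolynomial.map γ) hq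
    rw [map_mul, MvPolynomial.map_C, map_qf] at h1
    have h2 : MvPolynomial.map γ (comp3 (qf (cAt a)) N) = comp3 (qf (cAt (γ.comp a))) (γ.mapMatrix N) := by
      rw [comp3_qf, comp3_qf]
      simp only [map_add, map_mul, map_pow, MvPolynomial.map_C, MvPolynomial.map_X]
      simp only [qb, qv, map_add, map_mul, map_pow, map_ofNat]
      rfl
    rw [h2] at h1
    exact (comp3_qf_iff _ _ _ _).1 h1
  have hγφ : ∀ {Ω : Type u} [Field Ω] (γ : Localization.Away (fS G hn) →+* Ω) (l : Fin (n + 1)) (j : Fin 3),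
      φAt (γ.comp β) l j = ∑ i, φAt (γ.comp a) l i * (γ.mapMatrix N) i j := by
    intro Ω _ γ l j
    have h1 := congrArg γ (hφ l j)
    rw [map_sum] at h1
    simp only [map_mul] at h1
    exact h1
  have hγM : ∀ {Ω : Type u} [Field Ω] (γ : Localization.Away (fS G hn) →+* Ω),
      M3 hn (φAt (γ.comp a)) * γ.mapMatrix N = 1 := by
    intro Ω _ γ
    have h1 := congrArg γ.mapMatrix hMN
    rw [map_mul, map_one] at h1
    exact h1
  have key : {p : PrimeSpectrum (RC G) | p ∈ VO G ∧ ∃ s ∈ SG G, s ∈ W ∧ Eqv G s p} =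
      {p : PrimeSpectrum (RC G) | p ∈ VO G} ∩ (PrimeSpectrum.comap a '' (PrimeSpectrum.comap β ⁻¹' W)) := by
    ext p
    constructor
    · rintro ⟨hp, s, hs, hsW, Ω, _, α, α', hα, hα', h0, g, w', hg, hw', hq', hφ'⟩
      refine ⟨hp, ?_⟩
      have hMg : M3 hn (φAt α') * g = 1 := by
        ext i j
        rw [← apply_φU_of_mem_SG hs hα hn i j, hφ' (row3 hn i) j, Matrix.mul_apply]
        rfl
      have hM : IsUnit (M3 hn (φAt α')).det := by
        have h1 := congrArg Matrix.det hMg
        rw [Matrix.det_mul, Matrix.det_one] at h1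
        exact IsUnit.of_mul_eq_one _ h1
      have hginv : (M3 hn (φAt α'))⁻¹ = g := Matrix.inv_eq_right_inv hMg
      have hqg : qv (cAt α') (fun i => g i 0) = w' := by
        have h1 := (comp3_qf_iff _ _ _ _).1 hq' (Pi.single 0 1)
        have h2 : g *ᵥ (Pi.single 0 1) = fun i => g i 0 := by
          funext i
          simp
        rw [h2] at h1
        simpa [qv] using h1
      have hu : IsUnit (α' (fS G hn)) := by
        rw [map_fS]
        refine hM.mul ?_
        have h1 := qv_inv (cAt α') (M3 hn (φAt α'))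
        rw [hginv, hqg] at h1
        refine isUnit_iff_ne_zero.2 fun h2 => hw' ?_
        rw [h1, h2, mul_zero]
      let γ : Localization.Away (fS G hn) →+* Ω := IsLocalization.Away.lift (fS G hn) hu
      have hγa : γ.comp a = α' := IsLocalization.Away.lift_comp (fS G hn) hu
      have hN : γ.mapMatrix N = g := by
        have h1 := hγM γ
        rw [hγa] at h1
        rw [← hginv]
        exact (Matrix.inv_eq_right_inv h1).symm
      have hγβ : γ.comp β = α := by
        have h1 := hγ γ
        rw [hγa, hN, hq'] at h1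
        have h2 := eq_of_rel (A := Ω) (c := cAt α) (c' := cAt (γ.comp β)) (w := w') (w' := γ w)
          (isUnit_iff_ne_zero.2 hw') (fun x => by
            have h3 := congrArg (MvPolynomial.eval x) h1
            rwa [map_mul, MvPolynomial.eval_C, eval_qf, map_mul, MvPolynomial.eval_C, eval_qf] at h3)
        refine ringHom_ext ?_ (fun i => (h2.2 i).symm) (fun l j => ?_)
        · rw [RingHom.comp_assoc, hβ, ← RingHom.comp_assoc, hγa, h0]
        · have h3 := hγφ γ l j
          rw [hγa, hN] at h3
          exact h3.trans (hφ' l j).symm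
      refine ⟨⟨RingHom.ker γ, RingHom.ker_isPrime γ⟩, ?_, ?_⟩
      · have h1 : PrimeSpectrum.comap β ⟨RingHom.ker γ, RingHom.ker_isPrime γ⟩ = s := by
          refine PrimeSpectrum.ext ?_
          rw [PrimeSpectrum.comap_asIdeal]
          change Ideal.comap β (RingHom.ker γ) = _
          rw [RingHom.comap_ker, hγβ, hα]
        change PrimeSpectrum.comap β _ ∈ W
        rw [h1]
        exact hsW
      · refine PrimeSpectrum.ext ?_
        rw [PrimeSpectrum.comap_asIdeal]
        change Ideal.comap a (RingHom.ker γ) = _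
        rw [RingHom.comap_ker, hγa, hα']
    · rintro ⟨hp, q, hqW, rfl⟩
      let Ω := q.asIdeal.ResidueField
      let γ : Localization.Away (fS G hn) →+* Ω := algebraMap _ _
      have hk : RingHom.ker γ = q.asIdeal := Ideal.ker_algebraMap_residueField _
      have ha' : RingHom.ker (γ.comp a) = (PrimeSpectrum.comap a q).asIdeal := by
        rw [← RingHom.comap_ker, hk, PrimeSpectrum.comap_asIdeal]
      have hb' : RingHom.ker (γ.comp β) = (PrimeSpectrum.comap β q).asIdeal := by
        rw [← RingHom.comap_ker, hk, PrimeSpectrum.comap_asIdeal]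
      have hg : IsUnit (γ.mapMatrix N).det := by
        rw [← RingHom.map_det]
        exact hdetN.map γ
      have hw0 : γ w ≠ 0 := (hw.map γ).ne_zero
      have := h2Ω Ω (γ.comp a)
      have hV : PrimeSpectrum.comap β q ∈ VO G := by
        rw [mem_VO_iff hb']
        exact exists_regPoly_ne_zero ((comp3_qf_iff _ _ _ _).1 (hγ γ)) hg hw0 (hγφ γ) ((mem_VO_iff ha').1 hp)
      refine ⟨hp, PrimeSpectrum.comap β q, ⟨hV, fun i j l hl => ?_⟩, hqW, Ω, inferInstance, γ.comp β, γ.comp a, hb',
        ha', ?_, γ.mapMatrix N, γ w, hg, hw0, hγ γ, hγφ γ⟩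
      · have hl' : l = row3 hn i := Fin.ext hl
        subst hl'
        rw [← hb', RingHom.mem_ker, map_sub, map_sub, sub_eq_zero]
        have h1 := congrFun (congrFun (hγM γ) i) j
        rw [Matrix.mul_apply, Matrix.one_apply] at h1
        have h2 := hγφ γ (row3 hn i) j
        refine h2.trans (h1.trans ?_)
        split_ifs <;> simp
      · rw [RingHom.comp_assoc, hβ, ← RingHom.comp_assoc]
  rw [key]
  refine (VO G).isOpen.inter ?_
  exact (PrimeSpectrum.localization_away_isOpenEmbedding (Localization.Away (fS G hn)) (fS G hn)).isOpenMap _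
    (hW.preimage (PrimeSpectrum.continuous_comap β))

end Sat

end K423.QSat
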