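import Groth.Agent.Fano.K423.QTr
import Groth.Agent.Fano.K423.QLin
import Groth.Agent.Fano.K423.QSat
import Groth.Agent.CalgC.DimFT

/-!
# Closed subsets stable under changes of coordinates have dimension at least nine

* `derivation_eq_zero_of_mem`: derivations killing `(c, φ)` and `(c', φ')` kill the matrix of the change of coordinates;
* `exists_generic_orbit`: the generic change of coordinates of a pair;
* `nine_le_ringKrullDim`: node Q1 of `K745.PlanH`.
-/

set_option autoImplicit false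

universe u

open CategoryTheory CategoryTheory.Limits AlgebraicGeometry

namespace K423.QOrb

open K745.ConDef K745.HDef Matrix K423.QMat K423.QEqv K423.QHom K423.QSat K423.QLin K423.QTr

variable {n : ℕ}

/-- The infinitesimal stabilizer of a regular pair is zero. -/
theorem derivation_eq_zero_of_mem {F Ω : Type u} [Field F] [Field Ω] [Algebra F Ω] [NeZero (2 : Ω)]
    (d : Derivation F Ω Ω) {c c' : Fin 5 → Ω} {φ φ' : Fin (n + 1) → Fin 3 → Ω} {g : Matrix (Fin 3) (Fin 3) Ω} {w : Ω}
    (hg : IsUnit g.det) (hw : w ≠ 0) (hq : ∀ x, qv c (g *ᵥ x) = w * qv c' x)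
    (hφ : ∀ l j, φ' l j = ∑ i, φ l i * g i j) (dc : ∀ i, d (c i) = 0) (dc' : ∀ i, d (c' i) = 0)
    (dφ : ∀ l i, d (φ l i) = 0) (dφ' : ∀ l i, d (φ' l i) = 0) (hreg : ∃ i, bpf c φ i ≠ 0)
    (hdisc : ∃ i, disc3 c' i ≠ 0) (i j : Fin 3) : d (g i j) = 0 := by
  let col : Fin 3 → Fin 3 → Ω := fun j i => g i j
  let dcol : Fin 3 → Fin 3 → Ω := fun j i => d (g i j)
  have hcol : ∀ j, col j = g *ᵥ (Pi.single j 1) := fun j => by
    funext i
    simp [col]
  have hpol : ∀ x y, qb c (g *ᵥ x) (g *ᵥ y) = w * qb c' x y := fun x y => by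
    rw [qb_eq, qb_eq, ← Matrix.mulVec_add, hq, hq, hq]
    ring
  have hT : ∀ i j, qb c (col i) (col j) = w * qb c' (Pi.single i 1) (Pi.single j 1) := fun i j => by
    rw [hcol, hcol, hpol]
  have hsing : ∀ j : Fin 3, (fun i => d ((Pi.single j 1 : Fin 3 → Ω) i)) = 0 := fun j => by
    funext i
    by_cases h : i = j
    · subst h
      simp
    · simp [h]
  have hE : ∀ i j, qb c (dcol i) (col j) + qb c (col i) (dcol j) = (d w / w) * qb c (col i) (col j) := fun i j => by
    have h1 := congrArg d (hT i j)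
    rw [leibniz_qb d c dc, Derivation.leibniz, leibniz_qb d c' dc', hsing, hsing] at h1
    have h2 : ∀ x : Fin 3 → Ω, qb c' 0 x = 0 ∧ qb c' x 0 = 0 := fun x => by simp [qb]
    rw [(h2 _).1, (h2 _).2, add_zero, smul_zero, zero_add, smul_eq_mul] at h1
    rw [hT]
    have h3 : d w / w * (w * qb c' (Pi.single i 1) (Pi.single j 1)) =
        qb c' (Pi.single i 1) (Pi.single j 1) * d w := by
      field_simp
    rw [h3]
    exact h1
  have horth : ∀ l j, φ l ⬝ᵥ dcol j = 0 := fun l j => by
    have h1 := congrArg d (hφ l j)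
    rw [dφ', map_sum] at h1
    simp only [Derivation.leibniz, dφ, smul_eq_mul, mul_zero, add_zero] at h1
    exact h1.symm
  suffices h : ∀ j, dcol j = 0 from congrFun (h j) i
  obtain ⟨b, hb⟩ := hreg
  cases b with
  | inl l =>
    intro j
    refine Matrix.eq_zero_of_mulVec_eq_zero (M := Matrix.of fun i j => φ (l i) j) hb ?_
    funext i
    exact horth (l i) j
  | inr ab =>
    have hb' : qv c (crossProduct (φ ab.1) (φ ab.2)) ≠ 0 := by
      rw [← eval_qf]
      exact hb
    refine eq_zero_of_cross hE (horth ab.1) (horth ab.2) hb' (y := g⁻¹ *ᵥ crossProduct (φ ab.1) (φ ab.2)) ?_ ?_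
    · have h1 : g *ᵥ (g⁻¹ *ᵥ crossProduct (φ ab.1) (φ ab.2)) = crossProduct (φ ab.1) (φ ab.2) := by
        rw [Matrix.mulVec_mulVec, Matrix.mul_nonsing_inv _ hg, Matrix.one_mulVec]
      conv_lhs => rw [← h1]
      rw [Matrix.mulVec_eq_sum]
      refine Finset.sum_congr rfl fun j _ => ?_
      funext i
      simp [col, mul_comm]
    · rintro ⟨r, s, hrs⟩
      obtain ⟨m, hm⟩ := hdisc
      have h00 : w * 2 = r * (s 0 * s 0) := by
        rw [← hrs 0 0, hT]; simp [qb]
      have h01 : w * c' 0 = r * (s 0 * s 1) := by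
        rw [← hrs 0 1, hT]; simp [qb]
      have h02 : w * c' 1 = r * (s 0 * s 2) := by
        rw [← hrs 0 2, hT]; simp [qb]
      have h11 : w * (2 * c' 2) = r * (s 1 * s 1) := by
        rw [← hrs 1 1, hT]; simp [qb]
      have h12 : w * c' 3 = r * (s 1 * s 2) := by
        rw [← hrs 1 2, hT]; simp [qb]
      have h22 : w * (2 * c' 4) = r * (s 2 * s 2) := by
        rw [← hrs 2 2, hT]; simp [qb]
      apply hm
      refine mul_left_cancel₀ (pow_ne_zero 2 hw) ?_
      rw [mul_zero]
      fin_cases m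
      · change w ^ 2 * (4 * c' 2 - c' 0 ^ 2) = 0
        linear_combination (w * (2 * c' 2)) * h00 + (r * (s 0 * s 0)) * h11 - (w * c' 0 + r * (s 0 * s 1)) * h01
      · change w ^ 2 * (4 * c' 3 - 2 * c' 0 * c' 1) = 0
        linear_combination (2 * (w * c' 3)) * h00 + (2 * (r * (s 0 * s 0))) * h12 - (2 * (w * c' 1)) * h01 -
          (2 * (r * (s 0 * s 1))) * h02
      · change w ^ 2 * (4 * c' 4 - c' 1 ^ 2) = 0
        linear_combination (w * (2 * c' 4)) * h00 + (r * (s 0 * s 0)) * h22 - (w * c' 1 + r * (s 0 * s 2)) * h02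

/-- A lower bound for the dimension of a domain of finite type. -/
theorem nine_le_aux {k K Ω A : Type u} [Field k] [Field K] [Field Ω] [CommRing A] [Algebra k A]
    [Algebra.FiniteType k A] [Algebra K Ω] (p : Ideal A) [p.IsPrime] (α : k →+* K) (β : A →+* Ω)
    (hβp : RingHom.ker β = p) (hβ : ∀ x : k, β (algebraMap k A x) = algebraMap K Ω (α x))
    (halg : Algebra.IsAlgebraic (IntermediateField.adjoin K (Set.range β)) Ω) (h9 : Algebra.trdeg K Ω = 9) :
    (9 : WithBot ℕ∞) ≤ ringKrullDim (A ⧸ p) := by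
  let _ : Algebra k K := α.toAlgebra
  let _ : Algebra k Ω := ((algebraMap K Ω).comp α).toAlgebra
  have : IsScalarTower k K Ω := IsScalarTower.of_algebraMap_eq' rfl
  let ψ₀ : A ⧸ p →+* Ω := Ideal.Quotient.lift p β fun x hx => by
    rw [← hβp, RingHom.mem_ker] at hx
    exact hx
  let ψ : A ⧸ p →ₐ[k] Ω :=
    { ψ₀ with
      commutes' := hβ }
  have hψ : Function.Injective ψ := by
    have h1 : Function.Injective ψ₀ := by
      rw [injective_iff_map_eq_zero]
      intro x hx
      obtain ⟨x, rfl⟩ := Ideal.Quotient.mk_surjective x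
      have h2 : β x = 0 := hx
      rw [Ideal.Quotient.eq_zero_iff_mem, ← hβp, RingHom.mem_ker]
      exact h2
    exact h1
  have hr : Set.range ψ = Set.range β := by
    ext z
    constructor
    · rintro ⟨x, rfl⟩
      obtain ⟨x, rfl⟩ := Ideal.Quotient.mk_surjective x
      exact ⟨x, rfl⟩
    · rintro ⟨x, rfl⟩
      exact ⟨Ideal.Quotient.mk p x, rfl⟩
  rw [← hr] at halg
  have h := trdeg_le ψ hψ halg
  obtain ⟨m, h1, h2, -⟩ := Groth.Agent.CalgC.DimFT.exists_dim k (A ⧸ p)
  rw [h2, h9] at h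
  rw [h1]
  exact_mod_cast h

section Generic

variable (K : Type u) [Field K]

/-- The ring of the coordinates of a generic matrix. -/
abbrev P9 : Type u := MvPolynomial (Fin 3 × Fin 3) K

/-- The field of the coordinates of a generic matrix. -/
abbrev Ω9 : Type u := FractionRing (P9 K)

/-- The generic matrix. -/
noncomputable def g9 : Matrix (Fin 3) (Fin 3) (P9 K) := Matrix.of fun i j => MvPolynomial.X (i, j)

/-- The generic matrix. -/
noncomputable def gΩ : Matrix (Fin 3) (Fin 3) (Ω9 K) := (algebraMap (P9 K) (Ω9 K)).mapMatrix (g9 K)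

/-- Specialization at the identity matrix. -/
noncomputable def ev9 : P9 K →+* K := MvPolynomial.eval fun ij => (1 : Matrix (Fin 3) (Fin 3) K) ij.1 ij.2

theorem ev9_g9 : (ev9 K).mapMatrix (g9 K) = 1 := by
  ext i j
  simp [ev9, g9]

theorem ev9_C (a : K) : ev9 K (MvPolynomial.C a) = a := by simp [ev9]

theorem isUnit_det_gΩ : IsUnit (gΩ K).det := by
  rw [gΩ, ← RingHom.map_det]
  refine isUnit_iff_ne_zero.2 fun h => ?_
  have h1 : (g9 K).det = 0 := (map_eq_zero_iff _ (IsFractionRing.injective (P9 K) (Ω9 K))).1 h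
  have h2 := congrArg (ev9 K) h1
  rw [RingHom.map_det, ev9_g9, Matrix.det_one, map_zero] at h2
  exact one_ne_zero h2

variable {K} {k : Type u} [Field k] {G : MvPolynomial (Fin (n + 1)) k}

/-- The generic change of coordinates of a pair `(c, φ)`; it specializes to the pair. -/
theorem exists_generic_orbit (α : RC G →+* K) : ∃ (β : RC G →+* Ω9 K) (w : Ω9 K), w ≠ 0 ∧
    RingHom.ker β ≤ RingHom.ker α ∧
    β.comp (algebraMap k (RC G)) =
      ((algebraMap (P9 K) (Ω9 K)).comp MvPolynomial.C).comp (α.comp (algebraMap k (RC G))) ∧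
    (∀ x, qv (cAt (((algebraMap (P9 K) (Ω9 K)).comp MvPolynomial.C).comp α)) (gΩ K *ᵥ x) = w * qv (cAt β) x) ∧
    ∀ l j, φAt β l j = ∑ i, φAt (((algebraMap (P9 K) (Ω9 K)).comp MvPolynomial.C).comp α) l i * gΩ K i j := by
  let αP : RC G →+* P9 K := MvPolynomial.C.comp α
  let u : P9 K := qv (cAt αP) (fun i => g9 K i 0)
  have hu : ev9 K u = 1 := by
    rw [map_qv]
    have h1 : (fun i => ev9 K (g9 K i 0)) = fun i => (1 : Matrix (Fin 3) (Fin 3) K) i 0 := by
      funext i
      exact congrFun (congrFun (ev9_g9 K) i) 0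
    rw [h1]
    simp [qv]
  have hu0 : u ≠ 0 := fun h => by
    rw [h, map_zero] at hu
    exact zero_ne_one hu
  let a : P9 K →+* Localization.Away u := algebraMap _ _
  have hau : IsUnit (a u) := IsLocalization.Away.algebraMap_isUnit u
  obtain ⟨v, hv⟩ := hau.exists_right_inv
  have hcol : qv (cAt (a.comp αP)) (fun i => a.mapMatrix (g9 K) i 0) = a u := (map_qv a _ _).symm
  have h1 := comp3_qf_tc (cAt (a.comp αP)) (a.mapMatrix (g9 K)) (v := v) (by rw [hcol]; exact hv)
  rw [hcol] at h1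
  obtain ⟨β, hβ0, hβc, hβφ⟩ := exists_hom ((a.comp αP).comp (algebraMap k (RC G))) G
    (tc (cAt (a.comp αP)) (a.mapMatrix (g9 K)) v)
    (fun l j => ∑ i, φAt (a.comp αP) l i * a.mapMatrix (g9 K) i j)
    (dvd_of_matrix _ G hau h1 (fun _ _ => rfl) (dvd_of_hom G (a.comp αP)))
  have hβc' : tc (cAt (a.comp αP)) (a.mapMatrix (g9 K)) v = cAt β := funext fun i => (hβc i).symm
  rw [hβc', comp3_qf_iff] at h1
  -- specialization
  have hue : IsUnit (ev9 K u) := by rw [hu]; exact isUnit_one
  let e : Localization.Away u →+* K := IsLocalization.Away.lift u hue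
  have he : e.comp a = ev9 K := IsLocalization.Away.lift_comp u hue
  have he' : ∀ x, e (a x) = ev9 K x := fun x => congr($he x)
  have heg : e.mapMatrix (a.mapMatrix (g9 K)) = 1 := by
    rw [← ev9_g9 K, ← he]
    rfl
  have heα : (e.comp a).comp αP = α := by
    rw [he]
    exact RingHom.ext fun x => ev9_C K (α x)
  have heα' : ∀ x, e (a (αP x)) = α x := fun x => congr($heα x)
  have heβ : e.comp β = α := by
    have h2 : ∀ x : Fin 3 → K, 1 * qv (cAt α) x = 1 * qv (cAt (e.comp β)) x := by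
      have h3 : comp3 (qf (cAt α)) 1 = MvPolynomial.C 1 * qf (cAt (e.comp β)) := by
        have h4 := congrArg (MvPolynomial.map e) ((comp3_qf_iff _ _ _ _).2 h1)
        rw [map_mul, MvPolynomial.map_C, map_qf] at h4
        have h5 : MvPolynomial.map e (comp3 (qf (cAt (a.comp αP))) (a.mapMatrix (g9 K))) =
            comp3 (qf fun i => e (cAt (a.comp αP) i)) (e.mapMatrix (a.mapMatrix (g9 K))) := by
          rw [comp3_qf, comp3_qf]
          simp only [map_add, map_mul, map_pow, MvPolynomial.map_C, MvPolynomial.map_X]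
          simp only [qb, qv, map_add, map_mul, map_pow, map_ofNat]
          rfl
        rw [h5, heg, he' u, hu] at h4
        have h6 : (fun i => e (cAt (a.comp αP) i)) = cAt α := by
          funext i
          exact heα' _
        rw [h6] at h4
        exact h4
      intro x
      have h4 := congrArg (MvPolynomial.eval x) h3
      rw [eval_comp3, Matrix.one_mulVec, eval_qf, map_mul, MvPolynomial.eval_C, eval_qf] at h4
      rw [one_mul]
      exact h4
    have h3 := eq_of_rel (isUnit_one) h2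
    refine ringHom_ext ?_ (fun i => (h3.2 i).symm) (fun l j => ?_)
    · rw [RingHom.comp_assoc, hβ0]
      ext x
      exact heα' _
    · change e (β (mkR G (φU n k l j))) = _
      rw [hβφ, map_sum]
      simp only [map_mul]
      have h4 : ∀ i, e (a.mapMatrix (g9 K) i j) = (1 : Matrix (Fin 3) (Fin 3) K) i j := fun i =>
        congrFun (congrFun heg i) j
      simp only [h4]
      have h5 : ∀ i, e (φAt (a.comp αP) l i) = φAt α l i := fun i => heα' _
      simp only [h5]
      simp [Matrix.one_apply]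
  -- the inclusion in the field of fractions
  have huΩ : IsUnit (algebraMap (P9 K) (Ω9 K) u) := isUnit_iff_ne_zero.2
    ((map_ne_zero_iff _ (IsFractionRing.injective (P9 K) (Ω9 K))).2 hu0)
  let b : Localization.Away u →+* Ω9 K := IsLocalization.Away.lift u huΩ
  have hb : b.comp a = algebraMap (P9 K) (Ω9 K) := IsLocalization.Away.lift_comp u huΩ
  have hainj : Function.Injective a := IsLocalization.injective _ (powers_le_nonZeroDivisors_of_noZeroDivisors hu0)
  have hbinj : Function.Injective b := by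
    refine (IsLocalization.lift_injective_iff _).2 fun x y => ?_
    rw [(IsFractionRing.injective (P9 K) (Ω9 K)).eq_iff]
    exact hainj.eq_iff
  have hba : ∀ x, b (a x) = algebraMap (P9 K) (Ω9 K) x := fun x => congr($hb x)
  refine ⟨b.comp β, b (a u), (hau.map b).ne_zero, fun x hx => ?_, ?_, ?_, fun l j => ?_⟩
  · rw [RingHom.mem_ker, RingHom.comp_apply] at hx
    have h2 : β x = 0 := hbinj (by rw [hx, map_zero])
    have h3 : α x = e (β x) := congr($heβ.symm x)
    rw [RingHom.mem_ker, h3, h2, map_zero]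
  · rw [RingHom.comp_assoc, hβ0]
    ext x
    exact hba _
  · have h4 := congrArg (MvPolynomial.map b) ((comp3_qf_iff _ _ _ _).2 h1)
    rw [map_mul, MvPolynomial.map_C, map_qf] at h4
    have h5 : MvPolynomial.map b (comp3 (qf (cAt (a.comp αP))) (a.mapMatrix (g9 K))) =
        comp3 (qf fun i => b (cAt (a.comp αP) i)) (b.mapMatrix (a.mapMatrix (g9 K))) := by
      rw [comp3_qf, comp3_qf]
      simp only [map_add, map_mul, map_pow, MvPolynomial.map_C, MvPolynomial.map_X]
      simp only [qb, qv, map_add, map_mul, map_pow, map_ofNat]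
      rfl
    rw [h5] at h4
    have h6 : (fun i => b (cAt (a.comp αP) i)) =
        cAt (((algebraMap (P9 K) (Ω9 K)).comp MvPolynomial.C).comp α) := by
      funext i
      exact hba _
    have h7 : b.mapMatrix (a.mapMatrix (g9 K)) = gΩ K := by
      ext i j
      exact hba _
    rw [h6, h7] at h4
    exact (comp3_qf_iff _ _ _ _).1 h4
  · change b (β (mkR G (φU n k l j))) = _
    rw [hβφ, map_sum]
    simp only [map_mul]
    refine Finset.sum_congr rfl fun i _ => ?_
    exact congrArg₂ (· * ·) (hba _) (hba _)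

/-- The generic matrix is algebraic over the field generated by the generic translate of the pair. -/
theorem isAlgebraic_orbit [CharZero k] (α : RC G →+* K) (β : RC G →+* Ω9 K) {w : Ω9 K} (hw : w ≠ 0)
    (hq : ∀ x, qv (cAt (((algebraMap (P9 K) (Ω9 K)).comp MvPolynomial.C).comp α)) (gΩ K *ᵥ x) = w * qv (cAt β) x)
    (hφ : ∀ l j, φAt β l j = ∑ i, φAt (((algebraMap (P9 K) (Ω9 K)).comp MvPolynomial.C).comp α) l i * gΩ K i j)
    (hreg : ∃ i, regPoly (cAt α) (φAt α) i ≠ 0) (hdisc : ∃ i, disc3 (cAt β) i ≠ 0) :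
    Algebra.IsAlgebraic (IntermediateField.adjoin K (Set.range β)) (Ω9 K) := by
  let F := IntermediateField.adjoin K (Set.range β)
  have hK : CharZero K := charZero_of_injective_ringHom (α.comp (algebraMap k (RC G))).injective
  have hΩ : CharZero (Ω9 K) := charZero_of_injective_algebraMap (algebraMap K (Ω9 K)).injective
  have hF : CharZero F := charZero_of_injective_algebraMap (algebraMap K F).injective
  have h2 : NeZero (2 : Ω9 K) := ⟨two_ne_zero⟩
  have : Algebra.EssFiniteType (P9 K) (Ω9 K) := Algebra.EssFiniteType.of_isLocalization _ (nonZeroDivisors (P9 K))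
  have : Algebra.EssFiniteType K (Ω9 K) := Algebra.EssFiniteType.comp K (P9 K) (Ω9 K)
  have : Algebra.EssFiniteType F (Ω9 K) := Algebra.EssFiniteType.of_comp K F (Ω9 K)
  refine isAlgebraic_of_derivation (F := F) (Ω := Ω9 K) fun d => ?_
  have hdK : ∀ x : K, d (algebraMap (P9 K) (Ω9 K) (MvPolynomial.C x)) = 0 := fun x => by
    have h1 : algebraMap (P9 K) (Ω9 K) (MvPolynomial.C x) = algebraMap F (Ω9 K) (algebraMap K F x) := by
      rw [← IsScalarTower.algebraMap_apply K F (Ω9 K), IsScalarTower.algebraMap_apply K (P9 K) (Ω9 K)]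
      rfl
    rw [h1, Derivation.map_algebraMap]
  have hdβ : ∀ x : RC G, d (β x) = 0 := fun x => by
    have h1 : β x = algebraMap F (Ω9 K) ⟨β x, IntermediateField.subset_adjoin K _ ⟨x, rfl⟩⟩ := rfl
    rw [h1, Derivation.map_algebraMap]
  refine derivation_eq_zero (σ := Fin 3 × Fin 3) (K := K) d hdK fun ij => ?_
  have hα' : ∀ i, regPoly (cAt (((algebraMap (P9 K) (Ω9 K)).comp MvPolynomial.C).comp α))
      (φAt (((algebraMap (P9 K) (Ω9 K)).comp MvPolynomial.C).comp α)) i =
      ((algebraMap (P9 K) (Ω9 K)).comp MvPolynomial.C) (regPoly (cAt α) (φAt α) i) := fun i =>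
    (map_regPoly ((algebraMap (P9 K) (Ω9 K)).comp MvPolynomial.C) (cAt α) (φAt α) i).symm
  have hreg' : ∃ i, bpf (cAt (((algebraMap (P9 K) (Ω9 K)).comp MvPolynomial.C).comp α))
      (φAt (((algebraMap (P9 K) (Ω9 K)).comp MvPolynomial.C).comp α)) i ≠ 0 := by
    obtain ⟨⟨i, b⟩, hi⟩ := hreg
    refine ⟨b, fun h => hi ?_⟩
    have h1 := hα' ⟨i, b⟩
    rw [regPoly, h, mul_zero] at h1
    exact (map_eq_zero ((algebraMap (P9 K) (Ω9 K)).comp MvPolynomial.C)).1 h1.symm
  exact derivation_eq_zero_of_mem d (isUnit_det_gΩ K) hw hq hφ (fun i => hdK _) (fun i => hdβ _) (fun l i => hdK _)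
    (fun l i => hdβ _) hreg' hdisc ij.1 ij.2

theorem trdeg_Ω9 : Algebra.trdeg K (Ω9 K) = 9 := by
  have h1 := lift_trdeg_add_eq K (P9 K) (Ω9 K)
  have : Algebra.IsAlgebraic (P9 K) (Ω9 K) := IsLocalization.isAlgebraic _ (nonZeroDivisors (P9 K))
  rw [trdeg_eq_zero (R := P9 K) (A := Ω9 K), MvPolynomial.trdeg_of_isDomain] at h1
  simpa using h1.symm

end Generic

/-- Node Q1: irreducible components of closed subsets stable under coordinate changes have dimension at least nine. -/
theorem nine_le_ringKrullDim {k : Type u} [Field k] [CharZero k] (G : MvPolynomial (Fin (n + 1)) k)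
    (Z : Set (PrimeSpectrum (RC G)))
    (hsat : ∀ p ∈ Z, p ∈ VO G → ∀ p' ∈ VO G, Eqv G p p' → p' ∈ Z) (p : PrimeSpectrum (RC G))
    (hp : p ∈ Z) (hpV : p ∈ VO G) (hmin : ∀ q ∈ Z, q ≤ p → q = p) :
    (9 : WithBot ℕ∞) ≤ ringKrullDim (RC G ⧸ p.asIdeal) := by
  let K := p.asIdeal.ResidueField
  let α : RC G →+* K := algebraMap _ _
  have hα : RingHom.ker α = p.asIdeal := Ideal.ker_algebraMap_residueField _
  obtain ⟨β, w, hw, hker, hβ, hq, hφ⟩ := exists_generic_orbit α
  let κ : K →+* Ω9 K := (algebraMap (P9 K) (Ω9 K)).comp MvPolynomial.C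
  let p' : PrimeSpectrum (RC G) := ⟨RingHom.ker β, RingHom.ker_isPrime β⟩
  have hle : p' ≤ p := hker.trans hα.le
  have hreg := (mem_VO_iff hα).1 hpV
  have hαΩ : RingHom.ker (κ.comp α) = p.asIdeal := by
    ext x
    rw [RingHom.mem_ker, RingHom.comp_apply, map_eq_zero, ← RingHom.mem_ker, hα]
  have hpV' : p' ∈ VO G :=
    (PrimeSpectrum.le_iff_specializes p' p |>.1 hle).mem_open (VO G).isOpen hpV
  have hE : Eqv G p p' := by
    refine ⟨Ω9 K, inferInstance, κ.comp α, β, hαΩ, rfl, ?_, (gΩ K)⁻¹, w⁻¹, ?_, inv_ne_zero hw, ?_, ?_⟩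
    · rw [RingHom.comp_assoc]
      exact hβ.symm
    · rw [Matrix.isUnit_nonsing_inv_det_iff]
      exact isUnit_det_gΩ K
    · exact (comp3_qf_iff _ _ _ _).2 (rel_inv (isUnit_det_gΩ K) (inv_mul_cancel₀ hw) hq)
    · exact row_inv (isUnit_det_gΩ K) hφ
  have heq : p' = p := hmin p' (hsat p hp hpV p' hpV' hE) hle
  have hdisc : ∃ i, disc3 (cAt β) i ≠ 0 := by
    obtain ⟨⟨i, b⟩, hi⟩ := (mem_VO_iff (p := p') (α := β) rfl).1 hpV'
    exact ⟨i, left_ne_zero_of_mul hi⟩
  exact nine_le_aux p.asIdeal (α.comp (algebraMap k (RC G))) β (congrArg PrimeSpectrum.asIdeal heq)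
    (fun x => congr($hβ x)) (isAlgebraic_orbit α β hw hq hφ hreg hdisc) trdeg_Ω9

end K423.QOrb
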