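import Mathlib.RingTheory.Unramified.Field
import Mathlib.RingTheory.AlgebraicIndependent.TranscendenceBasis
import Mathlib.RingTheory.Algebraic.Integral
import Mathlib.FieldTheory.IntermediateField.Adjoin.Basic
import Mathlib.LinearAlgebra.Dual.Lemmas
import Mathlib.RingTheory.MvPolynomial.Basic
import Mathlib.Algebra.MvPolynomial.Derivation
import Mathlib.RingTheory.Localization.FractionRing

/-!
# Transcendence degree and derivations

* `isAlgebraic_of_derivation`: a finitely generated field extension of characteristic zero without derivations is algebraic;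
* `trdeg_le`: `trdeg_K Ω ≤ trdeg_k D` if `D → Ω` is injective and `Ω` is algebraic over `K(D)`;
* `derivation_eq_zero`: a derivation of the field of rational functions vanishing on scalars and variables is zero.
-/

set_option autoImplicit false

universe u

namespace K423.QTr

open Cardinal KaehlerDifferential

theorem isAlgebraic_of_derivation {F Ω : Type u} [Field F] [Field Ω] [Algebra F Ω] [CharZero F]
    [Algebra.EssFiniteType F Ω] (h : ∀ d : Derivation F Ω Ω, d = 0) : Algebra.IsAlgebraic F Ω := by
  have h1 : Subsingleton (Ω[Ω⁄F]) := by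
    have h2 : ∀ l : Module.Dual Ω (Ω[Ω⁄F]), l = 0 := fun l => by
      have h3 := h (KaehlerDifferential.linearMapEquivDerivation F Ω l)
      exact (LinearEquiv.map_eq_zero_iff _).1 h3
    refine subsingleton_of_forall_eq 0 fun x => ?_
    exact (Module.forall_dual_apply_eq_zero_iff Ω x).1 fun l => by rw [h2 l, LinearMap.zero_apply]
  have : Algebra.FormallyUnramified F Ω := ⟨h1⟩
  have := Algebra.FormallyUnramified.isSeparable F Ω
  infer_instance

theorem trdeg_le {k K Ω D : Type u} [Field k] [Field K] [Field Ω] [Algebra k K] [Algebra K Ω] [Algebra k Ω]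
    [IsScalarTower k K Ω] [CommRing D] [IsDomain D] [Algebra k D] (ψ : D →ₐ[k] Ω) (hψ : Function.Injective ψ)
    (h : Algebra.IsAlgebraic (IntermediateField.adjoin K (Set.range ψ)) Ω) :
    Algebra.trdeg K Ω ≤ Algebra.trdeg k D := by
  obtain ⟨s, hs⟩ := exists_isTranscendenceBasis k D
  let t : Set Ω := ψ '' s
  let A₁ : Subalgebra K Ω := Algebra.adjoin K t
  -- elements of `D` are algebraic over `A₁`
  have hsub : ∀ x : Algebra.adjoin k (Set.range ((↑) : s → D)), ψ x ∈ A₁ := by
    rintro ⟨x, hx⟩
    rw [Subtype.range_coe] at hx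
    have h1 : ψ x ∈ Algebra.adjoin k t := by
      have h2 := AlgHom.map_adjoin ψ s
      have h3 : ψ x ∈ (Algebra.adjoin k s).map ψ := ⟨x, hx, rfl⟩
      rwa [h2] at h3
    have h4 : Algebra.adjoin k t ≤ A₁.restrictScalars k := Algebra.adjoin_le Algebra.subset_adjoin
    exact h4 h1
  let f : Algebra.adjoin k (Set.range ((↑) : s → D)) →+* A₁ :=
    (ψ.toRingHom.comp (Algebra.adjoin k (Set.range ((↑) : s → D))).toSubring.subtype).codRestrict A₁ hsub
  have hf : Function.Injective f := fun x y hxy => by
    have h1 : ψ x = ψ y := congrArg (Subtype.val : A₁ → Ω) hxy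
    exact Subtype.ext (hψ h1)
  have halg : ∀ x : D, IsAlgebraic A₁ (ψ x) := fun x => by
    have h1 : Algebra.IsAlgebraic (Algebra.adjoin k (Set.range ((↑) : s → D))) D := hs.isAlgebraic
    exact (h1.isAlgebraic x).ringHom_of_comp_eq f ψ.toRingHom hf (RingHom.ext fun _ => rfl)
  -- the field `K(D)` is algebraic over `A₁`
  let C₀ : Subalgebra A₁ Ω := Subalgebra.algebraicClosure A₁ Ω
  let C : IntermediateField K Ω := (C₀.restrictScalars K).toIntermediateField fun x hx => IsAlgebraic.inv hx
  have hC : IntermediateField.adjoin K (Set.range ψ) ≤ C := by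
    rw [IntermediateField.adjoin_le_iff]
    rintro _ ⟨x, rfl⟩
    exact halg x
  let i : IntermediateField.adjoin K (Set.range ψ) →+* C₀ :=
    (algebraMap (IntermediateField.adjoin K (Set.range ψ)) Ω).codRestrict C₀ fun x => hC x.2
  have : Algebra.IsAlgebraic A₁ Ω := by
    refine ⟨fun z => ?_⟩
    have h1 : IsAlgebraic C₀ z :=
      (h.isAlgebraic z).ringHom_of_comp_eq i (RingHom.id Ω) i.injective (RingHom.ext fun _ => rfl)
    exact h1.restrictScalars A₁
  calc Algebra.trdeg K Ω ≤ #t := Algebra.IsAlgebraic.trdeg_le_cardinalMk K t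
    _ ≤ #s := mk_image_le
    _ = Algebra.trdeg k D := hs.cardinalMk_eq_trdeg

theorem derivation_eq_zero {σ : Type*} {F K Ω : Type u} [CommRing F] [Field K] [Field Ω] [Algebra (MvPolynomial σ K) Ω]
    [IsFractionRing (MvPolynomial σ K) Ω] [Algebra F Ω] (d : Derivation F Ω Ω)
    (h0 : ∀ a : K, d (algebraMap (MvPolynomial σ K) Ω (MvPolynomial.C a)) = 0)
    (h1 : ∀ i, d (algebraMap (MvPolynomial σ K) Ω (MvPolynomial.X i)) = 0) : d = 0 := by
  have h2 : ∀ p : MvPolynomial σ K, d (algebraMap (MvPolynomial σ K) Ω p) = 0 := fun p => by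
    induction p using MvPolynomial.induction_on with
    | C a => exact h0 a
    | add p q hp hq => rw [map_add, map_add, hp, hq, add_zero]
    | mul_X p i hp => rw [map_mul, Derivation.leibniz, hp, h1, smul_zero, smul_zero, add_zero]
  ext z
  obtain ⟨a, b, hb, rfl⟩ := IsFractionRing.div_surjective (A := MvPolynomial σ K) z
  have hb0 : algebraMap (MvPolynomial σ K) Ω b ≠ 0 := by
    rw [Ne, IsFractionRing.to_map_eq_zero_iff]
    exact nonZeroDivisors.ne_zero hb
  have h3 : d (algebraMap (MvPolynomial σ K) Ω b *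
      (algebraMap (MvPolynomial σ K) Ω a / algebraMap (MvPolynomial σ K) Ω b)) = 0 := by
    rw [mul_div_cancel₀ _ hb0]
    exact h2 a
  rw [Derivation.leibniz, h2 b, smul_zero, add_zero, smul_eq_mul] at h3
  exact (mul_eq_zero.1 h3).resolve_left hb0

end K423.QTr
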